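import Groth.Agent.EssEtLib.LocalHom
import Groth.Agent.EtAlg7.EssEtale
import Groth.Agent.DescLib.EtaleFlat
import Groth.Agent.IndEtLib.Sys
import Groth.Agent.S12237
import Groth.Agent.S0539
import Groth.Agent.S17977
import Mathlib

/-! Essentially étale local algebras inside a strict henselization. -/

set_option autoImplicit false
set_option linter.style.haveILetI false
set_option linter.unusedSectionVars false

universe u

open IsLocalRing

namespace Groth.Agent.E4Loc

variable {A : Type u} [CommRing A] [IsLocalRing A]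

theorem isEssentiallyEtale_congr {E E' : Type u} [CommRing E] [CommRing E'] [Algebra A E] [Algebra A E']
    (h : EGA4loc.IsEssentiallyEtale A E) (e : E ≃ₐ[A] E') : EGA4loc.IsEssentiallyEtale A E' := by
  obtain ⟨C, i₁, i₂, q, i₃, hC, hq, ⟨f⟩⟩ := h
  exact ⟨C, i₁, i₂, q, i₃, hC, hq, ⟨e.symm.trans f⟩⟩

theorem flat_of_isEssentiallyEtale {E : Type u} [CommRing E] [Algebra A E]
    (h : EGA4loc.IsEssentiallyEtale A E) : Module.Flat A E := by
  obtain ⟨C, _, _, q, _, _, _, hC, -, hl⟩ := EtAlg7.exists_presentation h
  haveI : Module.Flat C E := IsLocalization.flat E q.primeCompl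
  exact Module.Flat.trans A C E

/-- A flat local algebra receiving an unramified local algebra is faithfully flat over it. -/
theorem faithfullyFlat_of_unramified {E T : Type u} [CommRing E] [IsLocalRing E] [Algebra A E]
    [Algebra.FormallyUnramified A E] [Algebra.EssFiniteType A E]
    [CommRing T] [IsLocalRing T] [Algebra A T] [Module.Flat A T] [Algebra E T] [IsScalarTower A E T]
    [IsLocalHom (algebraMap E T)] : Module.FaithfullyFlat E T :=
  haveI : Module.Flat E T := DescLib.flat_over_unramified A E T
  Module.FaithfullyFlat.of_flat_of_isLocalHom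

theorem injective_algHom {E T : Type u} [CommRing E] [IsLocalRing E] [Algebra A E]
    [Algebra.FormallyUnramified A E] [Algebra.EssFiniteType A E]
    [CommRing T] [IsLocalRing T] [Algebra A T] [Module.Flat A T] (ψ : E →ₐ[A] T)
    [IsLocalHom ψ.toRingHom] : Function.Injective ψ := by
  letI : Algebra E T := ψ.toRingHom.toAlgebra
  haveI : IsScalarTower A E T := .of_algebraMap_eq fun a => (ψ.commutes a).symm
  haveI : IsLocalHom (algebraMap E T) := ‹IsLocalHom ψ.toRingHom›
  haveI := faithfullyFlat_of_unramified (A := A) (E := E) (T := T)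
  exact FaithfulSMul.algebraMap_injective E T

/-- An unramified local algebra is a quotient of an essentially étale one. -/
theorem exists_cover (B : Type u) [CommRing B] [IsLocalRing B] [Algebra A B] [IsLocalHom (algebraMap A B)]
    [Algebra.EssFiniteType A B] [Algebra.FormallyUnramified A B] :
    ∃ (G : Type u) (_ : CommRing G) (_ : IsLocalRing G) (_ : Algebra A G) (φ : G →ₐ[A] B),
      EGA4loc.IsEssentiallyEtale A G ∧ Function.Surjective φ ∧ IsLocalHom φ.toRingHom := by
  let C := Algebra.EssFiniteType.subalgebra A B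
  let Q : Ideal C := (maximalIdeal B).comap (algebraMap C B)
  have : Q.IsPrime := Ideal.IsPrime.comap _
  have hM : Algebra.EssFiniteType.submonoid A B = Q.primeCompl := by
    ext x
    show IsUnit (algebraMap C B x) ↔ algebraMap C B x ∉ maximalIdeal B
    rw [IsLocalRing.mem_maximalIdeal, mem_nonunits_iff, not_not]
  have : IsLocalization Q.primeCompl B := hM ▸ Algebra.EssFiniteType.isLocalization A B
  have : Algebra.IsUnramifiedAt A Q := by
    exact Algebra.FormallyUnramified.of_equiv
      ((IsLocalization.algEquiv Q.primeCompl B (Localization.AtPrime Q)).restrictScalars A)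
  obtain ⟨f, hf, P, ψ, hψ⟩ := Algebra.IsUnramifiedAt.exists_hasStandardEtaleSurjectionOn (R := A) Q
  let L := Localization.Away f
  let φ : L →ₐ[C] B := IsLocalization.liftAlgHom (M := Submonoid.powers f) (f := Algebra.ofId C B) fun y =>
    IsLocalization.map_units B (⟨y.1, Submonoid.powers_le.mpr hf y.2⟩ : Q.primeCompl)
  let g : P.Ring →ₐ[A] B := (φ.restrictScalars A).comp ψ
  let q : Ideal P.Ring := (maximalIdeal B).comap g
  have : q.IsPrime := Ideal.IsPrime.comap _
  let G : Localization.AtPrime q →ₐ[A] B := IsLocalization.liftAlgHom (M := q.primeCompl) (f := g) fun y =>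
    IsLocalRing.notMem_maximalIdeal.mp y.2
  have hG : ∀ x, G (algebraMap P.Ring _ x) = g x := fun x => IsLocalization.lift_eq _ x
  refine ⟨Localization.AtPrime q, inferInstance, inferInstance, inferInstance, G,
    ⟨P.Ring, inferInstance, inferInstance, q, inferInstance, inferInstance, ?_, ⟨AlgEquiv.refl⟩⟩, ?_, ⟨fun z hz => ?_⟩⟩
  · ext a
    show g (algebraMap A P.Ring a) ∈ maximalIdeal B ↔ a ∈ maximalIdeal A
    rw [AlgHom.commutes]
    exact not_congr ⟨fun h => isUnit_of_map_unit (algebraMap A B) a h, fun h => h.map _⟩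
  · intro z
    obtain ⟨⟨c, m⟩, hz⟩ := IsLocalization.surj Q.primeCompl z
    obtain ⟨c', hc'⟩ := hψ (algebraMap C L c)
    obtain ⟨m', hm'⟩ := hψ (algebraMap C L m)
    have e1 : g c' = algebraMap C B c := (congrArg φ hc').trans (φ.commutes c)
    have e2 : g m' = algebraMap C B m := (congrArg φ hm').trans (φ.commutes m)
    have hu : IsUnit (g m') := e2 ▸ IsLocalization.map_units B m
    have hmem : m' ∈ q.primeCompl :=
      (IsLocalRing.notMem_maximalIdeal.mpr hu : g m' ∉ maximalIdeal B)
    refine ⟨IsLocalization.mk' (Localization.AtPrime q) c' (⟨m', hmem⟩ : q.primeCompl), hu.mul_left_injective ?_⟩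
    have h3 := congrArg G (IsLocalization.mk'_spec (Localization.AtPrime q) c' (⟨m', hmem⟩ : q.primeCompl))
    rw [map_mul, hG, hG] at h3
    show G _ * g m' = z * g m'
    rw [h3, e1, e2]
    exact hz.symm
  · obtain ⟨⟨x, s⟩, hzs⟩ := IsLocalization.surj q.primeCompl z
    have hu : IsUnit (G (z * algebraMap P.Ring (Localization.AtPrime q) s)) := by
      rw [map_mul, hG]
      exact (hz : IsUnit (G z)).mul (IsLocalRing.notMem_maximalIdeal.mp s.2)
    rw [hzs, hG] at hu
    have hx : x ∈ q.primeCompl := (IsLocalRing.notMem_maximalIdeal.mpr hu : g x ∉ maximalIdeal B)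
    exact isUnit_of_mul_isUnit_left (y := algebraMap P.Ring (Localization.AtPrime q) s)
      (hzs ▸ IsLocalization.map_units (Localization.AtPrime q) (⟨x, hx⟩ : q.primeCompl))

section Strict

variable (A) (S : Type u) [CommRing S] [IsLocalRing S] [Algebra A S] [IsLocalHom (algebraMap A S)]
  [Hensel.IsStrictHenselization A S]

/-- Finitely many elements of a strict henselization lie in an essentially étale local subalgebra. -/
theorem exists_subalgebra (s : Finset S) :
    ∃ E : Subalgebra A S, (s : Set S) ⊆ (E : Set S) ∧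
      ∃ _ : IsLocalRing E, IsLocalHom (algebraMap E S) ∧ EGA4loc.IsEssentiallyEtale A E := by
  haveI := S0539.result A S
  obtain ⟨Sy, hét, ⟨e⟩⟩ := IndEtLib.exists_sys (S12237.result A S)
  obtain ⟨j, y, hy⟩ := Sy.exists_lift_finset s fun x => e.symm x
  let g : Sy.A j →ₐ[A] S := e.toAlgHom.comp (Sy.ι j)
  let q : Ideal (Sy.A j) := (maximalIdeal S).comap g.toRingHom
  haveI : q.IsPrime := Ideal.IsPrime.comap _
  have hq : q.comap (algebraMap A (Sy.A j)) = maximalIdeal A := by
    ext a
    show g (algebraMap A (Sy.A j) a) ∈ maximalIdeal S ↔ _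
    rw [AlgHom.commutes]
    exact not_congr ⟨fun h => isUnit_of_map_unit (algebraMap A S) a h, fun h => h.map _⟩
  let L := Localization.AtPrime q
  let φ : L →ₐ[A] S := IsLocalization.liftAlgHom (M := q.primeCompl) (f := g) fun c =>
    IsLocalRing.notMem_maximalIdeal.mp c.2
  have hL : EGA4loc.IsEssentiallyEtale A L :=
    ⟨Sy.A j, inferInstance, inferInstance, q, inferInstance, hét j, hq, ⟨AlgEquiv.refl⟩⟩
  haveI := EssEtLib.isLocalHom_algebraMap hL
  haveI hφl : IsLocalHom φ.toRingHom := S17977.result A L hL S φ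
  haveI := EtAlg7.formallyUnramified hL
  haveI := EtAlg7.essFiniteType hL
  have hinj : Function.Injective φ := injective_algHom φ
  let eR : L ≃ₐ[A] φ.range := AlgEquiv.ofInjective φ hinj
  haveI : IsLocalRing φ.range := eR.toRingEquiv.isLocalRing
  refine ⟨φ.range, fun x hx => ⟨algebraMap (Sy.A j) L (y x), ?_⟩, inferInstance, ⟨fun z hz => ?_⟩,
    isEssentiallyEtale_congr hL eR⟩
  · show φ (algebraMap (Sy.A j) L (y x)) = x
    rw [IsLocalization.liftAlgHom_apply, IsLocalization.lift_eq]
    show e (Sy.ι j (y x)) = x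
    rw [hy x hx, AlgEquiv.apply_symm_apply]
  · obtain ⟨l, hl⟩ := eR.surjective z
    rw [← hl] at hz ⊢
    exact (hφl.map_nonunit l hz).map eR

end Strict

/-- Division by a regular element in a faithfully flat extension. -/
theorem mem_range_of_mul_mem {E T : Type u} [CommRing E] [CommRing T] [Algebra E T] [Module.FaithfullyFlat E T]
    {a : E} (ha : a ∈ nonZeroDivisors E) {x : T} (hx : ∃ e : E, algebraMap E T a * x = algebraMap E T e) :
    x ∈ (algebraMap E T).range := by
  obtain ⟨e, he⟩ := hx
  have hmem : e ∈ ((Ideal.span {a}).map (algebraMap E T)).comap (algebraMap E T) := by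
    rw [Ideal.mem_comap, Ideal.map_span, Set.image_singleton, ← he]
    exact Ideal.mul_mem_right _ _ (Ideal.mem_span_singleton_self _)
  rw [Ideal.comap_map_eq_self_of_faithfullyFlat, Ideal.mem_span_singleton'] at hmem
  obtain ⟨c, rfl⟩ := hmem
  refine ⟨c, ?_⟩
  have hreg : IsSMulRegular T a := Module.Flat.isSMulRegular_of_nonZeroDivisors ha
  refine hreg ?_
  show a • algebraMap E T c = a • x
  rw [Algebra.smul_def, Algebra.smul_def, he, map_mul, mul_comm]

end Groth.Agent.E4Loc
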