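import Groth.Agent.E4Loc.Basic
import Groth.Agent.S16448
import Mathlib

/-! Fractions in subalgebras of a strict henselization of a reduced local ring. -/

set_option autoImplicit false
set_option linter.style.haveILetI false
set_option linter.unusedSectionVars false

universe u

open IsLocalRing
open scoped nonZeroDivisors

namespace Groth.Agent.E4Loc

theorem algebraMap_mem_nonZeroDivisors (A E : Type u) [CommRing A] [CommRing E] [Algebra A E] [Module.Flat A E]
    {a : A} (ha : a ∈ A⁰) : algebraMap A E a ∈ E⁰ := by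
  have h : IsSMulRegular E a := Module.Flat.isSMulRegular_of_nonZeroDivisors ha
  exact mem_nonZeroDivisors_iff_right.2 fun z hz => h (by
    show a • z = a • 0
    rw [smul_zero, Algebra.smul_def, mul_comm]
    exact hz)

/-- The total ring of fractions of an essentially étale local algebra is finite over that of the base. -/
theorem exists_kStructure (A E : Type u) [CommRing A] [IsLocalRing A] [IsReduced A] (hmin : (minimalPrimes A).Finite)
    [CommRing E] [IsLocalRing E] [Algebra A E] (hE : EGA4loc.IsEssentiallyEtale A E) :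
    ∃ (_ : Algebra (FractionRing A) (FractionRing E)) (_ : IsScalarTower A (FractionRing A) (FractionRing E)),
      Module.Finite (FractionRing A) (FractionRing E) := by
  haveI := EssEtLib.isLocalHom_algebraMap hE
  obtain ⟨hloc, t, ht⟩ := S16448.result A E hmin hE
  let K := FractionRing A
  let KE := FractionRing E
  have hu : ∀ a : A⁰, IsUnit (algebraMap A KE a) := fun a => by
    rw [IsScalarTower.algebraMap_apply A E KE]
    exact IsLocalization.map_units KE (⟨_, Submonoid.mem_map_of_mem _ a.2⟩ : Submonoid.map (algebraMap A E) A⁰)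
  let g : K →ₐ[A] KE := IsLocalization.liftAlgHom (M := A⁰) (f := Algebra.ofId A KE) hu
  letI : Algebra K KE := g.toRingHom.toAlgebra
  haveI : IsScalarTower A K KE := IsScalarTower.of_algebraMap_eq fun a => (g.commutes a).symm
  refine ⟨inferInstance, inferInstance, ⟨⟨t, eq_top_iff.2 fun x _ => ?_⟩⟩⟩
  obtain ⟨a, ha, hx⟩ := ht x
  have h1 : algebraMap A KE a * x ∈ Submodule.span K (t : Set KE) := Submodule.span_le_restrictScalars A K _ hx
  have h2 := Submodule.smul_mem _ (IsLocalization.mk' K (1 : A) ⟨a, ha⟩) h1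
  rwa [Algebra.smul_def, ← mul_assoc, IsScalarTower.algebraMap_apply A K KE, ← map_mul,
    IsLocalization.mk'_spec, map_one, map_one, one_mul] at h2

/-- Clearing denominators in a span. -/
theorem exists_smul_mem_span {A : Type u} [CommRing A] {M : Type u} [AddCommGroup M] [Module A M]
    [Module (FractionRing A) M] [IsScalarTower A (FractionRing A) M] {T : Set M} {x : M}
    (hx : x ∈ Submodule.span (FractionRing A) T) : ∃ a ∈ A⁰, a • x ∈ Submodule.span A T := by
  induction hx using Submodule.span_induction with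
  | mem y hy => exact ⟨1, one_mem _, by rw [one_smul]; exact Submodule.subset_span hy⟩
  | zero => exact ⟨1, one_mem _, by rw [smul_zero]; exact zero_mem _⟩
  | add y z _ _ hy hz =>
    obtain ⟨a, ha, hay⟩ := hy
    obtain ⟨b, hb, hbz⟩ := hz
    refine ⟨a * b, mul_mem ha hb, ?_⟩
    rw [smul_add]
    refine add_mem ?_ ?_
    · rw [mul_comm, mul_smul]; exact Submodule.smul_mem _ b hay
    · rw [mul_smul]; exact Submodule.smul_mem _ a hbz
  | smul c y _ hy =>
    obtain ⟨a, ha, hay⟩ := hy
    obtain ⟨⟨r, s⟩, hrs⟩ := IsLocalization.surj A⁰ c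
    refine ⟨(s : A) * a, mul_mem s.2 ha, ?_⟩
    have : ((s : A) * a) • c • y = r • a • y := by
      rw [← algebraMap_smul (FractionRing A) ((s : A) * a) (c • y), smul_smul, smul_smul r a y,
        ← algebraMap_smul (FractionRing A) (r * a) y]
      congr 1
      rw [map_mul, map_mul, ← hrs]
      ring
    rw [this]
    exact Submodule.smul_mem _ r hay

variable (A : Type u) [CommRing A] [IsLocalRing A] [IsReduced A] (hmin : (minimalPrimes A).Finite)
  (S : Type u) [CommRing S] [IsLocalRing S] [Algebra A S] [IsLocalHom (algebraMap A S)]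
  [Hensel.IsStrictHenselization A S]

include hmin in
/-- Every regular element of a subalgebra divides a regular element of the base. -/
theorem exists_mul_eq_algebraMap (D : Subalgebra A S) (u : D) (hu : u ∈ D⁰) :
    ∃ v : D, ∃ a ∈ A⁰, u * v = algebraMap A D a := by
  obtain ⟨E, hsub, _, -, hE⟩ := exists_subalgebra A S {(u : S)}
  haveI := flat_of_isEssentiallyEtale hE
  obtain ⟨_, _, _⟩ := exists_kStructure A E hmin hE
  haveI := EssEtFrac5.isArtinianRing_fractionRing hmin
  let ue : E := ⟨u, hsub (by simp)⟩
  let ι := IsScalarTower.toAlgHom A E (FractionRing E)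
  have hι : Function.Injective ι := IsFractionRing.injective E (FractionRing E)
  have huD : ∀ p ∈ Algebra.adjoin A ({ue} : Set E), (p : S) ∈ D := by
    intro p hp
    induction hp using Algebra.adjoin_induction with
    | mem x hx => rw [Set.mem_singleton_iff] at hx; subst hx; exact u.2
    | algebraMap a => exact D.algebraMap_mem a
    | add x y _ _ hx hy => exact D.add_mem hx hy
    | mul x y _ _ hx hy => exact D.mul_mem hx hy
  let P : Submodule A (FractionRing E) := (Subalgebra.toSubmodule (Algebra.adjoin A ({ue} : Set E))).map ι.toLinearMap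
  let L := Submodule.span (FractionRing A) (P : Set (FractionRing E))
  have hP : ∀ x ∈ L, ∃ a ∈ A⁰, ∃ p ∈ Algebra.adjoin A ({ue} : Set E), a • x = ι p := fun x hx => by
    obtain ⟨a, ha, hax⟩ := exists_smul_mem_span hx
    rw [Submodule.span_eq] at hax
    obtain ⟨p, hp, hpx⟩ := hax
    exact ⟨a, ha, p, hp, hpx.symm⟩
  have hmul : ∀ x ∈ L, ι ue * x ∈ L := fun x hx => by
    induction hx using Submodule.span_induction with
    | mem y hy =>
      obtain ⟨p, hp, rfl⟩ := hy
      exact Submodule.subset_span ⟨ue * p,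
        (Algebra.adjoin A ({ue} : Set E)).mul_mem (Algebra.self_mem_adjoin_singleton A ue) hp, map_mul ι ue p⟩
    | zero => rw [mul_zero]; exact zero_mem _
    | add y z _ _ hy hz => rw [mul_add]; exact add_mem hy hz
    | smul c y _ hy => rw [mul_smul_comm]; exact Submodule.smul_mem _ c hy
  let μ : ↥L →ₗ[FractionRing A] ↥L :=
    { toFun := fun x => ⟨ι ue * x, hmul x x.2⟩
      map_add' := fun x y => Subtype.ext (mul_add _ x.1 y.1)
      map_smul' := fun c x => Subtype.ext (mul_smul_comm c _ x.1) }
  have hreg : ∀ a ∈ A⁰, ∀ x : FractionRing E, a • x = 0 → x = 0 := fun a ha x hx => by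
    have h1 := congrArg (fun z => IsLocalization.mk' (FractionRing A) (1 : A) ⟨a, ha⟩ • z) hx
    rwa [smul_zero, ← algebraMap_smul (FractionRing A) a x, smul_smul, IsLocalization.mk'_spec, map_one,
      one_smul] at h1
  have hμ : Function.Injective μ := by
    rw [← LinearMap.ker_eq_bot, LinearMap.ker_eq_bot']
    intro x hx
    obtain ⟨a, ha, p, hp, hax⟩ := hP x x.2
    have h0 : ι (ue * p) = 0 := by
      rw [map_mul, ← hax, mul_smul_comm, show ι ue * (x : FractionRing E) = 0 from congrArg Subtype.val hx, smul_zero]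
    have h1 : (⟨p, huD p hp⟩ : D) = 0 := (mem_nonZeroDivisors_iff_left.1 hu) _ (Subtype.ext
      (congrArg (fun z : E => (z : S)) (hι (h0.trans (map_zero ι).symm)) : (u : S) * (p : S) = 0))
    have h2 : p = 0 := Subtype.ext (congrArg (fun z : D => (z : S)) h1)
    exact Subtype.ext (hreg a ha x (by rw [hax, h2, map_zero]))
  obtain ⟨⟨x, hx⟩, hx1⟩ := (IsArtinian.bijective_of_injective_endomorphism μ hμ).2
    ⟨1, Submodule.subset_span ⟨1, (Algebra.adjoin A ({ue} : Set E)).one_mem, map_one ι⟩⟩
  obtain ⟨a, ha, p, hp, hax⟩ := hP x hx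
  refine ⟨⟨p, huD p hp⟩, a, ha, Subtype.ext ?_⟩
  have h3 : ι (ue * p) = ι (algebraMap A E a) := by
    rw [map_mul, ← hax, mul_smul_comm, show ι ue * x = 1 from congrArg Subtype.val hx1, AlgHom.commutes,
      Algebra.smul_def, mul_one]
  exact congrArg (fun z : E => (z : S)) (hι h3)

include hmin in
/-- Every fraction of a subalgebra has a denominator in the base. -/
theorem exists_smul_eq (D : Subalgebra A S) (x : FractionRing D) :
    ∃ a ∈ A⁰, ∃ d : D, algebraMap A (FractionRing D) a * x = algebraMap D (FractionRing D) d := by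
  obtain ⟨⟨d, u⟩, hdu⟩ := IsLocalization.surj D⁰ x
  obtain ⟨v, a, ha, huv⟩ := exists_mul_eq_algebraMap A hmin S D u u.2
  refine ⟨a, ha, d * v, ?_⟩
  rw [IsScalarTower.algebraMap_apply A D (FractionRing D), ← huv, map_mul, map_mul, ← hdu]
  ring

include hmin in
/-- The fractions of a subalgebra of an essentially étale algebra are finitely generated. -/
theorem fractionRing_fg_of_le (D E : Subalgebra A S) (hDE : D ≤ E) [IsLocalRing E]
    (hE : EGA4loc.IsEssentiallyEtale A E) :
    ∃ T : Finset (FractionRing D), ∀ x : FractionRing D, ∃ a ∈ A⁰,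
      algebraMap A (FractionRing D) a * x ∈ Submodule.span A (T : Set (FractionRing D)) := by
  classical
  obtain ⟨_, _, _⟩ := exists_kStructure A E hmin hE
  haveI := EssEtFrac5.isArtinianRing_fractionRing hmin
  let g : D →ₐ[A] FractionRing E :=
    (IsScalarTower.toAlgHom A E (FractionRing E)).comp (Subalgebra.inclusion hDE)
  have hg : Function.Injective g :=
    (IsFractionRing.injective E (FractionRing E)).comp (Subalgebra.inclusion_injective hDE)
  obtain ⟨T, hT, hspan⟩ := (Submodule.fg_span_iff_fg_span_finset_subset (Set.range g)).1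
    (IsNoetherian.noetherian (Submodule.span (FractionRing A) (Set.range g)))
  choose! δ hδ using fun z (hz : z ∈ T) => hT (Finset.mem_coe.2 hz)
  refine ⟨T.image fun z => algebraMap D (FractionRing D) (δ z), fun x => ?_⟩
  obtain ⟨a, ha, d, had⟩ := exists_smul_eq A hmin S D x
  obtain ⟨b, hb, hbd⟩ := exists_smul_mem_span (x := g d)
    (hspan ▸ Submodule.subset_span ⟨d, rfl⟩ : g d ∈ Submodule.span (FractionRing A) (T : Set (FractionRing E)))
  have hsub : (T : Set (FractionRing E)) = g '' (↑(T.image δ) : Set D) := by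
    rw [Finset.coe_image, Set.image_image]
    exact (Set.image_id' _).symm.trans (Set.image_congr fun z hz => (hδ z hz).symm)
  rw [hsub, show g '' (↑(T.image δ) : Set D) = g.toLinearMap '' _ from rfl, Submodule.span_image] at hbd
  obtain ⟨w, hw, hwd⟩ := hbd
  have hwb : w = b • d := hg (hwd.trans (map_smul g b d).symm)
  refine ⟨b * a, mul_mem hb ha, ?_⟩
  rw [map_mul, mul_assoc, had, ← Algebra.smul_def,
    show b • algebraMap D (FractionRing D) d = (IsScalarTower.toAlgHom A D (FractionRing D)).toLinearMap (b • d) from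
      (map_smul (IsScalarTower.toAlgHom A D (FractionRing D)) b d).symm, ← hwb, Finset.coe_image,
    show (fun z => algebraMap D (FractionRing D) (δ z)) '' ↑T =
      (IsScalarTower.toAlgHom A D (FractionRing D)).toLinearMap '' (δ '' ↑T) from (Set.image_image _ _ _).symm,
    Submodule.span_image]
  exact ⟨w, by rwa [Finset.coe_image] at hw, rfl⟩

include hmin in
/-- A subalgebra with finitely generated fractions lies in an essentially étale local subalgebra. -/
theorem exists_le_of_fg (D : Subalgebra A S)
    (hfg : ∃ t : Finset (FractionRing D), ∀ x : FractionRing D, ∃ a ∈ A⁰,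
      algebraMap A (FractionRing D) a * x ∈ Algebra.adjoin A (t : Set (FractionRing D))) :
    ∃ E : Subalgebra A S, D ≤ E ∧
      ∃ _ : IsLocalRing E, IsLocalHom (algebraMap E S) ∧ EGA4loc.IsEssentiallyEtale A E := by
  classical
  haveI := S0539.result A S
  obtain ⟨t, ht⟩ := hfg
  choose a ha d hd using fun z => exists_smul_eq A hmin S D z
  obtain ⟨E, hsub, hEl, hES, hE⟩ := exists_subalgebra A S (t.image fun z => (d z : S))
  refine ⟨E, fun x hx => ?_, hEl, hES, hE⟩
  haveI := hES
  haveI := flat_of_isEssentiallyEtale hE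
  haveI := EtAlg7.formallyUnramified hE
  haveI := EtAlg7.essFiniteType hE
  haveI := faithfullyFlat_of_unramified (A := A) (E := E) (T := S)
  have key : ∀ p ∈ Algebra.adjoin A (t : Set (FractionRing D)), ∃ c ∈ A⁰, ∃ q : D, (q : S) ∈ E ∧
      algebraMap A (FractionRing D) c * p = algebraMap D (FractionRing D) q := by
    intro p hp
    induction hp using Algebra.adjoin_induction with
    | mem z hz => exact ⟨a z, ha z, d z, hsub (Finset.mem_image.2 ⟨z, hz, rfl⟩), hd z⟩
    | algebraMap r => exact ⟨1, one_mem _, algebraMap A D r, E.algebraMap_mem r, by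
        rw [map_one, one_mul, ← IsScalarTower.algebraMap_apply]⟩
    | add y z _ _ hy hz =>
      obtain ⟨c, hc, q, hq, h1⟩ := hy
      obtain ⟨c', hc', q', hq', h2⟩ := hz
      refine ⟨c * c', mul_mem hc hc', algebraMap A D c' * q + algebraMap A D c * q', ?_, ?_⟩
      · exact E.add_mem (E.mul_mem (E.algebraMap_mem c') hq) (E.mul_mem (E.algebraMap_mem c) hq')
      · rw [map_add, map_mul, map_mul, map_mul, ← h1, ← h2, ← IsScalarTower.algebraMap_apply,
          ← IsScalarTower.algebraMap_apply]
        ring
    | mul y z _ _ hy hz =>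
      obtain ⟨c, hc, q, hq, h1⟩ := hy
      obtain ⟨c', hc', q', hq', h2⟩ := hz
      refine ⟨c * c', mul_mem hc hc', q * q', E.mul_mem hq hq', ?_⟩
      rw [map_mul, map_mul, ← h1, ← h2]
      ring
  obtain ⟨b, hb, hbx⟩ := ht (algebraMap D (FractionRing D) ⟨x, hx⟩)
  obtain ⟨c, hc, q, hq, hcq⟩ := key _ hbx
  have heq : algebraMap A D (c * b) * ⟨x, hx⟩ = q := IsFractionRing.injective D (FractionRing D) (by
    rw [← hcq, map_mul, map_mul, map_mul, ← IsScalarTower.algebraMap_apply, ← IsScalarTower.algebraMap_apply,
      mul_assoc])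
  obtain ⟨e, he⟩ := mem_range_of_mul_mem (E := E) (T := S) (algebraMap_mem_nonZeroDivisors A E (mul_mem hc hb))
    (x := x) ⟨⟨q, hq⟩, congrArg (fun z : D => (z : S)) heq⟩
  exact he ▸ e.2

end Groth.Agent.E4Loc
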