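import Groth.Agent.E4Loc.Basic
import Groth.Agent.E4Loc.Frac
import Groth.Agent.Hensel.EtaleResidueExt
import Groth.Agent.Hensel.Local
import Mathlib

/-! Finite étale subalgebras and intermediate fields over a henselian local domain. -/

set_option autoImplicit false
set_option linter.style.haveILetI false
set_option linter.unusedSectionVars false

universe u

open IsLocalRing
open scoped nonZeroDivisors

namespace Groth.Agent.E4Loc

variable {A : Type u} [CommRing A] [IsLocalRing A]

/-- A local étale algebra with local structure map is essentially étale. -/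
theorem isEssentiallyEtale_of_etale (F : Type u) [CommRing F] [IsLocalRing F] [Algebra A F]
    [IsLocalHom (algebraMap A F)] [Algebra.Etale A F] : EGA4loc.IsEssentiallyEtale A F := by
  refine ⟨F, inferInstance, inferInstance, maximalIdeal F, inferInstance, inferInstance,
    IsLocalRing.maximalIdeal_comap (algebraMap A F), ⟨?_⟩⟩
  have hb : Function.Bijective (algebraMap F (Localization.AtPrime (maximalIdeal F))) := by
    refine ⟨(injective_iff_map_eq_zero _).2 fun x hx => ?_, fun z => ?_⟩
    · obtain ⟨c, hc⟩ := (IsLocalization.map_eq_zero_iff (maximalIdeal F).primeCompl _ x).1 hx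
      exact (IsLocalRing.notMem_maximalIdeal.1 c.2).mul_right_eq_zero.1 hc
    · obtain ⟨x, s, rfl⟩ := IsLocalization.exists_mk'_eq (maximalIdeal F).primeCompl z
      obtain ⟨v, hv⟩ := (IsLocalRing.notMem_maximalIdeal.1 s.2).exists_left_inv
      exact ⟨x * v, (IsLocalization.mk'_eq_iff_eq_mul.2 (by rw [← map_mul, mul_assoc, hv, mul_one])).symm⟩
  exact (AlgEquiv.ofBijective (Algebra.ofId F (Localization.AtPrime (maximalIdeal F))) hb).restrictScalars A

/-- The residue degree of a finite étale local algebra is its rank. -/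
theorem finrank_residueField (F : Type u) [CommRing F] [IsLocalRing F] [Algebra A F]
    [IsLocalHom (algebraMap A F)] [Algebra.Etale A F] [Module.Finite A F] :
    Module.finrank (ResidueField A) (ResidueField F) = Module.finrank A F := by
  haveI : Module.Free A F := Module.free_of_flat_of_isLocalRing
  rw [← IsLocalRing.finrank_quotient_map (R := A) (S := F)]
  let i : (A ⧸ maximalIdeal A) ≃+* ResidueField A := RingEquiv.refl (A ⧸ maximalIdeal A)
  let j : (F ⧸ (maximalIdeal A).map (algebraMap A F)) ≃+* ResidueField F :=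
    Ideal.quotEquivOfEq (Algebra.FormallyUnramified.map_maximalIdeal (R := A) (S := F))
  refine (Algebra.finrank_eq_of_equiv_equiv i j ?_).symm
  refine Ideal.Quotient.ringHom_ext (RingHom.ext fun a => ?_)
  rfl

variable [IsDomain A]

/-- The generic degree of a finite étale local domain. -/
theorem finrank_fractionRing (F : Type u) [CommRing F] [IsLocalRing F] [IsDomain F] [Algebra A F]
    [IsLocalHom (algebraMap A F)] [Algebra.Etale A F] [Module.Finite A F]
    (K : Type u) [Field K] [Algebra A K] [IsFractionRing A K] (L : Type u) [Field L] [Algebra A L] [Algebra F L]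
    [IsFractionRing F L] [Algebra K L] [IsScalarTower A K L] [IsScalarTower A F L] :
    Module.finrank K L = Module.finrank A F ∧ Module.Finite K L := by
  haveI : Module.Free A F := Module.free_of_flat_of_isLocalRing
  haveI : Module.FaithfullyFlat A F := Module.FaithfullyFlat.of_flat_of_isLocalHom
  haveI : Algebra.IsIntegral A F := Algebra.IsIntegral.of_finite A F
  haveI : Algebra.IsAlgebraic A F := Algebra.IsIntegral.isAlgebraic
  haveI : IsLocalizedModule A⁰ (IsScalarTower.toAlgHom A F L).toLinearMap :=
    isLocalizedModule_iff_isLocalization.mpr inferInstance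
  exact ⟨Module.finrank_of_isLocalizedModule_of_free K A⁰ (IsScalarTower.toAlgHom A F L).toLinearMap,
    Module.Finite.of_isLocalizedModule A⁰ (IsScalarTower.toAlgHom A F L).toLinearMap⟩

set_option maxHeartbeats 4000000 in
/-- The intersection of a finitely generated subfield of `Frac S` with a strict henselization `S` of a henselian
local domain is an essentially étale local subalgebra. -/
theorem exists_eq_preimage_closure (A S : Type u) [CommRing A] [HenselianLocalRing A] [IsDomain A]
    [CommRing S] [IsLocalRing S] [Algebra A S] [IsLocalHom (algebraMap A S)]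
    [Hensel.IsStrictHenselization A S] [IsDomain S] (t : Finset (FractionRing S)) :
    ∃ D : Subalgebra A S, (D : Set S) = (algebraMap S (FractionRing S)) ⁻¹'
        (Subfield.closure (Set.range (algebraMap A (FractionRing S)) ∪ (t : Set (FractionRing S))) :
          Set (FractionRing S)) ∧
      ∃ _ : IsLocalRing D, IsLocalHom (algebraMap D S) ∧ EGA4loc.IsEssentiallyEtale A D := by
  classical
  haveI := S0539.result A S
  let K := FractionRing S
  haveI : HenselianLocalRing S := Hensel.IsStrictHenselization.henselian (R := A)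
  -- numerators and denominators
  choose num den hden using fun z : K => IsFractionRing.div_surjective (A := S) z
  obtain ⟨E₀, hsub, _, hE₀S, hE₀⟩ := exists_subalgebra A S (t.image num ∪ t.image den)
  haveI := hE₀S
  haveI := EssEtLib.isLocalHom_algebraMap hE₀
  haveI := EtAlg7.formallyUnramified hE₀
  haveI := EtAlg7.essFiniteType hE₀
  -- a Galois residue extension
  let k := ResidueField A
  let kS := ResidueField S
  haveI := Hensel.IsStrictHenselization.isSepClosure (R := A) (S := S)
  haveI : IsGalois k kS := IsSepClosure.isGalois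
  let ι₀ : ResidueField E₀ →ₐ[k] kS :=
    { ResidueField.map (algebraMap E₀ S) with
      commutes' := fun r => by
        obtain ⟨a, rfl⟩ := residue_surjective r
        show ResidueField.map (algebraMap E₀ S) (ResidueField.map (algebraMap A E₀) (residue A a)) =
          ResidueField.map (algebraMap A S) (residue A a)
        rw [ResidueField.map_residue, ResidueField.map_residue, ResidueField.map_residue,
          ← IsScalarTower.algebraMap_apply] }
  haveI : Module.Finite k (ResidueField E₀) := inferInstance
  let l₀ : IntermediateField k kS := ι₀.fieldRange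
  haveI : FiniteDimensional k l₀ :=
    Module.Finite.equiv (AlgEquiv.ofInjectiveField ι₀).toLinearEquiv
  let l : IntermediateField k kS := IntermediateField.normalClosure k l₀ kS
  haveI : FiniteDimensional k l := inferInstance
  haveI : IsGalois k l := inferInstance
  have hl₀ : ∀ x, ι₀ x ∈ l := fun x => l₀.le_normalClosure ⟨x, rfl⟩
  -- the finite étale algebra with residue field `l`
  obtain ⟨F, _, _, _, _, _, _, ⟨eF⟩⟩ := Hensel.exists_finite_etale_residueField A l
  have hF : EGA4loc.IsEssentiallyEtale A F := isEssentiallyEtale_of_etale F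
  haveI : HenselianLocalRing F := Hensel.henselianLocalRing_of_finite A F
  have hcompat : ∀ (C : Type u) [CommRing C] [IsLocalRing C] [Algebra A C] [IsLocalHom (algebraMap A C)]
      (B : Type u) [CommRing B] [IsLocalRing B] [Algebra A B] [IsLocalHom (algebraMap A B)]
      (f : ResidueField C →ₐ[k] ResidueField B) (a : A),
      f.toRingHom (residue C (algebraMap A C a)) = residue B (algebraMap A B a) := by
    intro C _ _ _ _ B _ _ _ _ f a
    have h := f.commutes (residue A a)
    rw [← ResidueField.map_residue (algebraMap A C), ← ResidueField.map_residue (algebraMap A B)]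
    exact h
  obtain ⟨ψ, hψ, -⟩ := EtAlg7.existsUnique_algHom hF (B := S) (l.val.comp eF.toAlgHom).toRingHom
    (hcompat F S (l.val.comp eF.toAlgHom))
  haveI hψl : IsLocalHom ψ.toRingHom := S17977.result A F hF S ψ
  haveI := EtAlg7.formallyUnramified hF
  haveI := EtAlg7.essFiniteType hF
  have hψinj : Function.Injective ψ := injective_algHom ψ
  haveI : IsDomain F := hψinj.isDomain
  letI : Algebra F S := ψ.toRingHom.toAlgebra
  haveI : IsScalarTower A F S := .of_algebraMap_eq fun a => (ψ.commutes a).symm
  haveI : IsLocalHom (algebraMap F S) := hψl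
  haveI := faithfullyFlat_of_unramified (A := A) (E := F) (T := S)
  -- `E₀` maps into `F`
  obtain ⟨φ₀, hφ₀, -⟩ := EtAlg7.existsUnique_algHom hE₀ (B := F)
    (eF.symm.toAlgHom.comp (ι₀.codRestrict l.toSubalgebra hl₀)).toRingHom
    (hcompat E₀ F (eF.symm.toAlgHom.comp (ι₀.codRestrict l.toSubalgebra hl₀)))
  have hE₀F : ∀ e : E₀, (e : S) = ψ (φ₀ e) := by
    have h := EtAlg7.algHom_ext_residue hE₀ (T := S) E₀.val (ψ.comp φ₀) fun e => by
      show residue S (e : S) = residue S (ψ (φ₀ e))
      rw [hψ, hφ₀]
      show ι₀ (residue E₀ e) = ((eF (eF.symm (ι₀.codRestrict l.toSubalgebra hl₀ (residue E₀ e)))) : kS)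
      rw [AlgEquiv.apply_symm_apply]
      rfl
    exact fun e => congr($h e)
  -- fraction fields
  let L := FractionRing F
  let KA := FractionRing A
  letI : Algebra KA L := FractionRing.liftAlgebra A L
  haveI : FaithfulSMul A S := inferInstance
  letI : Algebra KA K := FractionRing.liftAlgebra A K
  have hgψ : Function.Injective ((algebraMap S K).comp ψ.toRingHom) := (IsFractionRing.injective S K).comp hψinj
  let j : L →ₐ[KA] K :=
    { IsFractionRing.lift (K := L) (g := (algebraMap S K).comp ψ.toRingHom)
        hgψ with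
      commutes' := fun c => by
        obtain ⟨a, b, -, rfl⟩ := IsFractionRing.div_surjective (A := A) c
        have key : ∀ a : A, IsFractionRing.lift (K := L) (g := (algebraMap S K).comp ψ.toRingHom)
            hgψ (algebraMap KA L (algebraMap A KA a)) =
            algebraMap KA K (algebraMap A KA a) := fun a => by
          rw [← IsScalarTower.algebraMap_apply, ← IsScalarTower.algebraMap_apply,
            IsScalarTower.algebraMap_apply A F L, IsFractionRing.lift_algebraMap]
          show algebraMap S K (ψ (algebraMap A F a)) = _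
          rw [AlgHom.commutes, ← IsScalarTower.algebraMap_apply]
        show IsFractionRing.lift (K := L) (g := (algebraMap S K).comp ψ.toRingHom)
            hgψ (algebraMap KA L (_ / _)) = _
        rw [map_div₀, map_div₀, map_div₀, key, key] }
  have hj : ∀ x : F, j (algebraMap F L x) = algebraMap S K (ψ x) := fun x =>
    IsFractionRing.lift_algebraMap hgψ x
  obtain ⟨hrank, _⟩ := finrank_fractionRing (A := A) F KA L
  have hdeg : Module.finrank KA L = Module.finrank k l := by
    rw [hrank, ← finrank_residueField, eF.toLinearEquiv.finrank_eq]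
  -- Galois automorphisms
  choose τ hτ hτ' using fun σ : l ≃ₐ[k] l => EtAlg7.existsUnique_algHom hF (B := F)
    ((eF.symm.toAlgHom.comp σ.toAlgHom).comp eF.toAlgHom).toRingHom
    (hcompat F F ((eF.symm.toAlgHom.comp σ.toAlgHom).comp eF.toAlgHom))
  have hτr : ∀ σ x, residue F (τ σ x) = eF.symm (σ (eF (residue F x))) := fun σ x => hτ σ x
  have hτmul : ∀ σ σ', τ (σ * σ') = (τ σ).comp (τ σ') := fun σ σ' =>
    EtAlg7.algHom_ext_residue hF _ _ fun x => by
      rw [hτr, AlgHom.comp_apply, hτr, hτr, AlgEquiv.apply_symm_apply]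
      rfl
  have hτone : τ 1 = AlgHom.id A F := EtAlg7.algHom_ext_residue hF _ _ fun x => by
    rw [hτr]
    exact eF.symm_apply_apply _
  have hτinj : ∀ σ, Function.Injective (τ σ) := fun σ x y h => by
    have h1 := congrArg (τ σ⁻¹) h
    rwa [← AlgHom.comp_apply, ← AlgHom.comp_apply, ← hτmul, inv_mul_cancel, hτone] at h1
  have hgτ : ∀ σ, Function.Injective ((algebraMap F L).comp (τ σ).toRingHom) := fun σ =>
    (IsFractionRing.injective F L).comp (hτinj σ)
  let Φ₀ : (l ≃ₐ[k] l) → (L →ₐ[KA] L) := fun σ =>
    { IsFractionRing.lift (K := L) (g := (algebraMap F L).comp (τ σ).toRingHom)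
        (hgτ σ) with
      commutes' := fun c => by
        obtain ⟨a, b, -, rfl⟩ := IsFractionRing.div_surjective (A := A) c
        have key : ∀ a : A, IsFractionRing.lift (K := L) (g := (algebraMap F L).comp (τ σ).toRingHom)
            (hgτ σ) (algebraMap KA L (algebraMap A KA a)) =
            algebraMap KA L (algebraMap A KA a) := fun a => by
          rw [← IsScalarTower.algebraMap_apply, IsScalarTower.algebraMap_apply A F L, IsFractionRing.lift_algebraMap]
          show algebraMap F L (τ σ (algebraMap A F a)) = _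
          rw [AlgHom.commutes]
        show IsFractionRing.lift (K := L) (g := (algebraMap F L).comp (τ σ).toRingHom)
            (hgτ σ) (algebraMap KA L (_ / _)) = _
        rw [map_div₀, map_div₀, key, key] }
  have hΦ₀ : ∀ σ x, Φ₀ σ (algebraMap F L x) = algebraMap F L (τ σ x) := fun σ x =>
    IsFractionRing.lift_algebraMap (hgτ σ) x
  let Φ : (l ≃ₐ[k] l) →* (L ≃ₐ[KA] L) :=
    MonoidHom.mk' (fun σ => AlgEquiv.ofBijective (Φ₀ σ) (Algebra.IsAlgebraic.algHom_bijective _)) fun σ σ' =>
      AlgEquiv.ext fun z => by
        obtain ⟨x, y, -, rfl⟩ := IsFractionRing.div_surjective (A := F) z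
        show Φ₀ (σ * σ') _ = Φ₀ σ (Φ₀ σ' _)
        rw [map_div₀, map_div₀, map_div₀, hΦ₀, hΦ₀, hΦ₀, hΦ₀, hΦ₀, hΦ₀, hτmul]
        rfl
  have hΦ : ∀ σ x, Φ σ (algebraMap F L x) = algebraMap F L (τ σ x) := hΦ₀
  have hΦinj : Function.Injective Φ := fun σ σ' h => AlgEquiv.ext fun z => by
    obtain ⟨w, rfl⟩ := eF.surjective z
    obtain ⟨x, rfl⟩ := residue_surjective w
    have h1 := congrArg (fun g : L ≃ₐ[KA] L => g (algebraMap F L x)) h
    rw [hΦ, hΦ] at h1
    have h2 := congrArg (residue F) (IsFractionRing.injective F L h1)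
    rw [hτr, hτr] at h2
    exact eF.symm.injective h2
  have hcard : Nat.card (L ≃ₐ[KA] L) = Module.finrank KA L := by
    refine le_antisymm ?_ ?_
    · rw [Nat.card_eq_fintype_card]
      exact AlgEquiv.card_le
    · rw [hdeg, ← IsGalois.card_aut_eq_finrank]
      exact Nat.card_le_card_of_injective Φ hΦinj
  haveI : IsGalois KA L := IsGalois.of_card_aut_eq_finrank KA L hcard
  have hΦbij : Function.Bijective Φ :=
    (Nat.bijective_iff_injective_and_card Φ).2 ⟨hΦinj, by rw [hcard, hdeg, IsGalois.card_aut_eq_finrank]⟩
  -- the intermediate field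
  let T : Set L := {z | j z ∈ (t : Set K)}
  let L' : IntermediateField KA L := IntermediateField.adjoin KA T
  let H := L'.fixingSubgroup.comap Φ
  let l₁ : IntermediateField k l := IntermediateField.fixedField H
  obtain ⟨F₁, _, _, _, _, _, _, ⟨e₁⟩⟩ := Hensel.exists_finite_etale_residueField A l₁
  have hF₁ : EGA4loc.IsEssentiallyEtale A F₁ := isEssentiallyEtale_of_etale F₁
  haveI := EtAlg7.formallyUnramified hF₁
  haveI := EtAlg7.essFiniteType hF₁
  obtain ⟨i, hi, -⟩ := EtAlg7.existsUnique_algHom hF₁ (B := F)
    ((eF.symm.toAlgHom.comp l₁.val).comp e₁.toAlgHom).toRingHom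
    (hcompat F₁ F ((eF.symm.toAlgHom.comp l₁.val).comp e₁.toAlgHom))
  haveI hil : IsLocalHom i.toRingHom := S17977.result A F₁ hF₁ F i
  haveI : Module.Flat A F := inferInstance
  have hiinj : Function.Injective i := injective_algHom i
  haveI : IsDomain F₁ := hiinj.isDomain
  letI : Algebra F₁ F := i.toRingHom.toAlgebra
  haveI : IsScalarTower A F₁ F := .of_algebraMap_eq fun a => (i.commutes a).symm
  haveI : IsLocalHom (algebraMap F₁ F) := hil
  haveI := faithfullyFlat_of_unramified (A := A) (E := F₁) (T := F)
  let L₁ := FractionRing F₁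
  letI : Algebra KA L₁ := FractionRing.liftAlgebra A L₁
  obtain ⟨hrank₁, _⟩ := finrank_fractionRing (A := A) F₁ KA L₁
  have hgi : Function.Injective ((algebraMap F L).comp i.toRingHom) := (IsFractionRing.injective F L).comp hiinj
  let ι₁ : L₁ →ₐ[KA] L :=
    { IsFractionRing.lift (K := L₁) (g := (algebraMap F L).comp i.toRingHom)
        hgi with
      commutes' := fun c => by
        obtain ⟨a, b, -, rfl⟩ := IsFractionRing.div_surjective (A := A) c
        have key : ∀ a : A, IsFractionRing.lift (K := L₁) (g := (algebraMap F L).comp i.toRingHom)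
            hgi (algebraMap KA L₁ (algebraMap A KA a)) =
            algebraMap KA L (algebraMap A KA a) := fun a => by
          rw [← IsScalarTower.algebraMap_apply, ← IsScalarTower.algebraMap_apply,
            IsScalarTower.algebraMap_apply A F₁ L₁, IsFractionRing.lift_algebraMap]
          show algebraMap F L (i (algebraMap A F₁ a)) = _
          rw [AlgHom.commutes, ← IsScalarTower.algebraMap_apply]
        show IsFractionRing.lift (K := L₁) (g := (algebraMap F L).comp i.toRingHom)
            hgi (algebraMap KA L₁ (_ / _)) = _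
        rw [map_div₀, map_div₀, map_div₀, key, key] }
  have hι₁ : ∀ x, ι₁ (algebraMap F₁ L₁ x) = algebraMap F L (i x) := fun x =>
    IsFractionRing.lift_algebraMap hgi x
  have hle : ι₁.fieldRange ≤ L' := by
    rw [← IsGalois.fixedField_fixingSubgroup L']
    rintro _ ⟨z, rfl⟩ ⟨g, hg⟩
    obtain ⟨σ, rfl⟩ := hΦbij.2 g
    have hfix : (τ σ).comp i = i := EtAlg7.algHom_ext_residue hF₁ _ _ fun x => by
      rw [AlgHom.comp_apply, hτr, hi]
      show eF.symm (σ (eF (eF.symm (e₁ (residue F₁ x) : l)))) = eF.symm (e₁ (residue F₁ x) : l)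
      rw [AlgEquiv.apply_symm_apply]
      exact congrArg eF.symm ((e₁ (residue F₁ x)).2 ⟨σ, hg⟩)
    show Φ σ (ι₁ z) = ι₁ z
    obtain ⟨x, y, -, rfl⟩ := IsFractionRing.div_surjective (A := F₁) z
    rw [map_div₀, map_div₀, hι₁, hι₁, hΦ, hΦ, ← AlgHom.comp_apply, ← AlgHom.comp_apply, hfix]
  have hrange : ι₁.fieldRange = L' := by
    refine IntermediateField.eq_of_le_of_finrank_eq hle ?_
    have h1 : Module.finrank KA ι₁.fieldRange = Module.finrank k l₁ :=
      ((AlgEquiv.ofInjectiveField ι₁).toLinearEquiv.finrank_eq).symm.trans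
        (hrank₁.trans ((finrank_residueField (A := A) F₁).symm.trans e₁.toLinearEquiv.finrank_eq))
    have h2 : Module.finrank l₁ l = Nat.card H := IntermediateField.finrank_fixedField_eq_card H
    have h3 : Nat.card H = Module.finrank L' L := by
      rw [← IsGalois.card_fixingSubgroup_eq_finrank L']
      exact Nat.card_congr
        { toFun := fun σ => ⟨Φ σ.1, σ.2⟩
          invFun := fun g => ⟨(Equiv.ofBijective Φ hΦbij).symm g.1, by
            show Φ _ ∈ L'.fixingSubgroup
            rw [Equiv.ofBijective_apply_symm_apply Φ hΦbij]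
            exact g.2⟩
          left_inv := fun σ => Subtype.ext ((Equiv.ofBijective Φ hΦbij).symm_apply_apply σ.1)
          right_inv := fun g => Subtype.ext ((Equiv.ofBijective Φ hΦbij).apply_symm_apply g.1) }
    have h4 := Module.finrank_mul_finrank k l₁ l
    have h5 := Module.finrank_mul_finrank KA L' L
    rw [h2, h3, ← h1, ← hdeg, ← h5] at h4
    exact Nat.eq_of_mul_eq_mul_right Module.finrank_pos h4
  -- the closure
  have hclos : ∀ y : K, y ∈ Subfield.closure (Set.range (algebraMap A K) ∪ (t : Set K)) ↔ ∃ z ∈ L', j z = y := by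
    intro y
    constructor
    · intro hy
      induction hy using Subfield.closure_induction with
      | mem w hw =>
        rcases hw with ⟨a, rfl⟩ | hw
        · exact ⟨algebraMap KA L (algebraMap A KA a), L'.algebraMap_mem _, by
            rw [AlgHom.commutes, ← IsScalarTower.algebraMap_apply]⟩
        · have hn := hsub (Finset.mem_union_left _ (Finset.mem_image_of_mem num hw))
          have hd := hsub (Finset.mem_union_right _ (Finset.mem_image_of_mem den hw))
          obtain ⟨-, hwq⟩ := hden w
          refine ⟨algebraMap F L (φ₀ ⟨num w, hn⟩) / algebraMap F L (φ₀ ⟨den w, hd⟩), ?_, ?_⟩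
          · refine IntermediateField.subset_adjoin KA T (show j _ ∈ (t : Set K) from ?_)
            rwa [map_div₀, hj, hj, ← hE₀F, ← hE₀F, hwq]
          · rw [map_div₀, hj, hj, ← hE₀F, ← hE₀F, hwq]
      | one => exact ⟨1, one_mem _, map_one j⟩
      | add a b _ _ ha hb =>
        obtain ⟨u, hu, rfl⟩ := ha
        obtain ⟨v, hv, rfl⟩ := hb
        exact ⟨u + v, add_mem hu hv, map_add j u v⟩
      | neg a _ ha =>
        obtain ⟨u, hu, rfl⟩ := ha
        exact ⟨-u, neg_mem hu, map_neg j u⟩
      | inv a _ ha =>
        obtain ⟨u, hu, rfl⟩ := ha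
        exact ⟨u⁻¹, inv_mem hu, map_inv₀ j u⟩
      | mul a b _ _ ha hb =>
        obtain ⟨u, hu, rfl⟩ := ha
        obtain ⟨v, hv, rfl⟩ := hb
        exact ⟨u * v, mul_mem hu hv, map_mul j u v⟩
    · rintro ⟨z, hz, rfl⟩
      induction hz using IntermediateField.adjoin_induction with
      | mem w hw => exact Subfield.subset_closure (Or.inr hw)
      | algebraMap c =>
        obtain ⟨a, b, -, rfl⟩ := IsFractionRing.div_surjective (A := A) c
        rw [AlgHom.commutes, map_div₀, ← IsScalarTower.algebraMap_apply, ← IsScalarTower.algebraMap_apply]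
        exact Subfield.div_mem _ (Subfield.subset_closure (Or.inl ⟨a, rfl⟩))
          (Subfield.subset_closure (Or.inl ⟨b, rfl⟩))
      | add a b _ _ ha hb => rw [map_add]; exact add_mem ha hb
      | inv a _ ha => rw [map_inv₀]; exact inv_mem ha
      | mul a b _ _ ha hb => rw [map_mul]; exact mul_mem ha hb
  -- the subalgebra
  let θ : F₁ →ₐ[A] S := ψ.comp i
  have hθinj : Function.Injective θ := hψinj.comp hiinj
  let eR : F₁ ≃ₐ[A] θ.range := AlgEquiv.ofInjective θ hθinj
  haveI : IsLocalRing θ.range := eR.toRingEquiv.isLocalRing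
  refine ⟨θ.range, Set.ext fun x => ?_, inferInstance, ⟨fun z hz => ?_⟩, isEssentiallyEtale_congr hF₁ eR⟩
  · constructor
    · rintro ⟨w, rfl⟩
      refine (hclos _).2 ⟨algebraMap F L (i w), ?_, hj (i w)⟩
      rw [← hrange]
      exact ⟨algebraMap F₁ L₁ w, hι₁ w⟩
    · intro hx
      obtain ⟨z, hz, hzx⟩ := (hclos _).1 hx
      rw [← hrange] at hz
      obtain ⟨z, rfl⟩ := hz
      obtain ⟨a, b, hb, rfl⟩ := IsFractionRing.div_surjective (A := F₁) z
      change j (ι₁ _) = _ at hzx
      rw [map_div₀, map_div₀, hι₁, hι₁, hj, hj] at hzx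
      have hb0 : algebraMap S K (ψ (i b)) ≠ 0 :=
        (map_ne_zero_iff _ (IsFractionRing.injective S K)).2 ((map_ne_zero_iff _ hψinj).2
          ((map_ne_zero_iff _ hiinj).2 (nonZeroDivisors.ne_zero hb)))
      rw [div_eq_iff hb0, ← map_mul] at hzx
      have hx' : ψ (i a) = x * ψ (i b) := IsFractionRing.injective S K hzx
      letI : Algebra F₁ S := θ.toRingHom.toAlgebra
      haveI : IsScalarTower F₁ F S := .of_algebraMap_eq fun _ => rfl
      haveI : Module.FaithfullyFlat F₁ S := Module.FaithfullyFlat.trans F₁ F S
      obtain ⟨c, hc⟩ := mem_range_of_mul_mem (E := F₁) (T := S) (mem_nonZeroDivisors_of_ne_zero (nonZeroDivisors.ne_zero hb))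
        (x := x) ⟨a, by show θ b * x = θ a; rw [show θ a = ψ (i a) from rfl, hx', mul_comm]; rfl⟩
      exact ⟨c, hc⟩
  · obtain ⟨w, rfl⟩ := eR.surjective z
    exact (hil.map_nonunit w (hψl.map_nonunit _ hz)).map eR

end Groth.Agent.E4Loc
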