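import Groth.Agent.CompleteNagata.Complete
import Groth.Agent.FlatLoc6.Cpl
import Groth.Agent.FormCat.Descent
import Groth.Agent.Hensel.IntegralStrict
import Groth.Agent.Hensel.Local
import Groth.Agent.CAlgOdd.NagataFT.Local
import Mathlib

/-! Integral closures of Noetherian local domains in finite extensions are semilocal. -/

set_option autoImplicit false
set_option linter.style.haveILetI false
set_option linter.unusedSectionVars false

universe u

open IsLocalRing
open scoped TensorProduct

namespace Groth.Agent.E4Loc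

variable {A K' : Type u} [CommRing A] [IsDomain A] [IsLocalRing A] [IsNoetherianRing A]
  [Field K'] [Algebra A K'] [Algebra (FractionRing A) K'] [IsScalarTower A (FractionRing A) K']
  [FiniteDimensional (FractionRing A) K']

/-- A field generated by a complete local ring and a finite extension is finite over the fraction field of the
image of the ring. -/
theorem finiteDimensional_of_generated (C₀ L : Type u) [CommRing C₀] [IsDomain C₀] [Algebra A C₀] [Field L]
    [Algebra C₀ L] [FaithfulSMul C₀ L] [Algebra A L] [IsScalarTower A C₀ L] (φ : K' →ₐ[A] L)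
    (hgen : ∀ F : Subfield L, (∀ c, algebraMap C₀ L c ∈ F) → (∀ x, φ x ∈ F) → F = ⊤) :
    letI := FractionRing.liftAlgebra C₀ L
    FiniteDimensional (FractionRing C₀) L := by
  letI := FractionRing.liftAlgebra C₀ L
  let L₀ := FractionRing C₀
  let b := Module.finBasis (FractionRing A) K'
  let S : Set L := Set.range fun i => φ (b i)
  have hA : ∀ a : A, algebraMap A L a = algebraMap L₀ L (algebraMap C₀ L₀ (algebraMap A C₀ a)) := fun a => by
    rw [← IsScalarTower.algebraMap_apply, ← IsScalarTower.algebraMap_apply]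
  have hint : ∀ x ∈ S, IsIntegral L₀ x := by
    rintro _ ⟨i, rfl⟩
    obtain ⟨a, ha, hint⟩ := IsAlgebraic.exists_integral_multiple
      ((IsFractionRing.isAlgebraic_iff A (FractionRing A) K').2 (Algebra.IsAlgebraic.isAlgebraic (b i)))
    have h1 : IsIntegral L₀ (φ (a • b i)) := ((hint.map φ).tower_top (A := C₀)).tower_top
    rw [Algebra.smul_def, map_mul, AlgHom.commutes, hA] at h1
    have hne : algebraMap C₀ L₀ (algebraMap A C₀ a) ≠ 0 := fun h0 => ha (by
      have h2 : algebraMap A L a = 0 := by rw [hA, h0, map_zero]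
      rw [← φ.commutes, map_eq_zero_iff φ φ.toRingHom.injective,
        IsScalarTower.algebraMap_apply A (FractionRing A) K', map_eq_zero, IsFractionRing.to_map_eq_zero_iff] at h2
      exact h2)
    rw [← Algebra.smul_def] at h1
    have h3 := h1.smul (algebraMap C₀ L₀ (algebraMap A C₀ a))⁻¹
    rwa [inv_smul_smul₀ hne] at h3
  let F := IntermediateField.adjoin L₀ S
  haveI : FiniteDimensional L₀ F :=
    haveI : Finite S := (Set.finite_range _).to_subtype
    IntermediateField.finiteDimensional_adjoin hint
  have hK : ∀ x : K', φ x ∈ F := fun x => by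
    rw [← b.sum_repr x, map_sum]
    refine sum_mem fun i _ => ?_
    rw [Algebra.smul_def, map_mul]
    refine mul_mem ?_ (IntermediateField.subset_adjoin L₀ S ⟨i, rfl⟩)
    obtain ⟨a, c, -, hac⟩ := IsFractionRing.div_surjective (A := A) (b.repr x i)
    rw [← hac, map_div₀, map_div₀, ← IsScalarTower.algebraMap_apply, ← IsScalarTower.algebraMap_apply,
      AlgHom.commutes, AlgHom.commutes, hA, hA]
    exact div_mem (F.algebraMap_mem _) (F.algebraMap_mem _)
  have htop : F = ⊤ := by
    have h := hgen F.toSubfield (fun c => by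
      rw [IsScalarTower.algebraMap_apply C₀ L₀ L]; exact F.algebraMap_mem _) hK
    exact eq_top_iff.2 fun z _ => (h ▸ Subfield.mem_top z : z ∈ F.toSubfield)
  exact Module.Finite.equiv ((IntermediateField.equivOfEq htop).trans IntermediateField.topEquiv).toLinearEquiv

/-- The maximal ideal of the integral closure attached to a point of the completion. -/
theorem exists_maximal_of_point (C L : Type u) [CommRing C] [IsLocalRing C] [IsNoetherianRing C]
    [IsAdicComplete (maximalIdeal C) C] [Algebra A C] (hmap : (maximalIdeal A).map (algebraMap A C) = maximalIdeal C)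
    (hdense : ∀ c : C, ∃ a : A, c - algebraMap A C a ∈ maximalIdeal C)
    [Field L] [Algebra C L] [Algebra A L] [IsScalarTower A C L] (φ : K' →ₐ[A] L)
    (hgen : ∀ F : Subfield L, (∀ c, algebraMap C L c ∈ F) → (∀ x, φ x ∈ F) → F = ⊤) :
    ∃ N : Ideal (integralClosure A K'), N.IsMaximal ∧ Module.Finite A (integralClosure A K' ⧸ N) ∧
      ∀ b ∉ N, ∀ (B : Type u) [CommRing B] [Algebra C B] (θ : B →ₐ[C] L), (∀ z, IsIntegral C (θ z)) →
        ∀ P : Ideal B, P.IsPrime → RingHom.ker θ ≤ P → ∀ β : B, θ β = φ (b : K') → β ∉ P := by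
  let p : Ideal C := RingHom.ker (algebraMap C L)
  haveI : p.IsPrime := RingHom.ker_isPrime _
  let C₀ := C ⧸ p
  letI : Algebra C₀ L := (Ideal.Quotient.lift p (algebraMap C L) fun x hx => hx).toAlgebra
  have hC₀L : ∀ x : C, algebraMap C₀ L (Ideal.Quotient.mk p x) = algebraMap C L x := fun x => rfl
  haveI : IsScalarTower C C₀ L := .of_algebraMap_eq fun x => (hC₀L x).symm
  haveI : IsScalarTower A C₀ L := .of_algebraMap_eq fun a => by
    rw [IsScalarTower.algebraMap_apply A C C₀, IsScalarTower.algebraMap_apply A C L]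
    exact (hC₀L _).symm
  haveI : FaithfulSMul C₀ L := (faithfulSMul_iff_algebraMap_injective C₀ L).2
    ((injective_iff_map_eq_zero _).2 fun z hz => by
      obtain ⟨x, rfl⟩ := Ideal.Quotient.mk_surjective z
      exact Ideal.Quotient.eq_zero_iff_mem.2 hz)
  letI := FractionRing.liftAlgebra C₀ L
  haveI := finiteDimensional_of_generated C₀ L φ fun F h1 h2 => hgen F (fun c => hC₀L c ▸ h1 _) h2
  haveI : HenselianLocalRing C := Hensel.henselianLocalRing_of_henselianRing _
  haveI : HenselianLocalRing C₀ := Hensel.henselianLocalRing_of_finite C C₀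
  haveI : Module.Finite C₀ (integralClosure C₀ L) :=
    (CompleteNagata.isNagata_of_complete C).2 p L inferInstance
  let O := integralClosure C₀ L
  haveI : Algebra.IsIntegral C₀ O := Algebra.IsIntegral.of_finite C₀ O
  haveI : IsLocalRing O := Hensel.isLocalRing_of_isIntegral_domain C₀ O
  haveI : FaithfulSMul C₀ O := (faithfulSMul_iff_algebraMap_injective C₀ O).2 fun x y h =>
    FaithfulSMul.algebraMap_injective C₀ L (congrArg Subtype.val h)
  haveI : IsScalarTower A C₀ O :=
    .of_algebraMap_eq fun a => Subtype.ext (IsScalarTower.algebraMap_apply A C₀ L a)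
  let ψ : integralClosure A K' →ₐ[A] O :=
    { toFun := fun x => ⟨φ x, ((x.2 : IsIntegral A (x : K')).map φ).tower_top⟩
      map_one' := Subtype.ext (map_one φ)
      map_mul' := fun x y => Subtype.ext (map_mul φ (x : K') (y : K'))
      map_zero' := Subtype.ext (map_zero φ)
      map_add' := fun x y => Subtype.ext (map_add φ (x : K') (y : K'))
      commutes' := fun a => Subtype.ext (φ.commutes a) }
  let N : Ideal (integralClosure A K') := (maximalIdeal O).comap ψ
  haveI : N.IsPrime := Ideal.IsPrime.comap _
  haveI : IsLocalHom (algebraMap C₀ O) := RingHom.IsIntegral.isLocalHom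
    (algebraMap_isIntegral_iff.mpr inferInstance) (FaithfulSMul.algebraMap_injective C₀ O)
  haveI : IsLocalHom (algebraMap C C₀) := IsLocalHom.of_surjective _ Ideal.Quotient.mk_surjective
  have hm : ∀ c ∈ maximalIdeal C, algebraMap C₀ O (algebraMap C C₀ c) ∈ maximalIdeal O := fun c hc hu =>
    hc (isUnit_of_map_unit (algebraMap C C₀) c (isUnit_of_map_unit (algebraMap C₀ O) _ hu))
  have hloc : ∀ a ∈ maximalIdeal A, algebraMap A O a ∈ maximalIdeal O := fun a ha => by
    rw [IsScalarTower.algebraMap_apply A C₀ O, IsScalarTower.algebraMap_apply A C C₀]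
    exact hm _ (hmap ▸ Ideal.mem_map_of_mem _ ha)
  have hNc : N.comap (algebraMap A (integralClosure A K')) = maximalIdeal A := by
    refine le_antisymm (le_maximalIdeal (Ideal.IsPrime.comap _).ne_top) fun a ha => ?_
    show ψ (algebraMap A _ a) ∈ maximalIdeal O
    rw [AlgHom.commutes]
    exact hloc a ha
  haveI : N.IsMaximal := Ideal.isMaximal_of_isIntegral_of_isMaximal_comap N (hNc ▸ maximalIdeal.isMaximal A)
  refine ⟨N, inferInstance, ?_, ?_⟩
  · haveI : Module.Finite A (ResidueField O) := by
      classical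
      obtain ⟨S, hS⟩ := Module.Finite.fg_top (R := C₀) (M := O)
      refine ⟨⟨S.image (residue O), eq_top_iff.2 fun z _ => ?_⟩⟩
      obtain ⟨z, rfl⟩ := residue_surjective z
      have hz : z ∈ Submodule.span C₀ (S : Set O) := hS ▸ trivial
      induction hz using Submodule.span_induction with
      | mem y hy => exact Submodule.subset_span (Finset.mem_coe.2 (Finset.mem_image_of_mem _ hy))
      | zero => rw [map_zero]; exact zero_mem _
      | add y y' _ _ hy hy' => rw [map_add]; exact add_mem (hy trivial) (hy' trivial)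
      | smul c y _ hy =>
        obtain ⟨c, rfl⟩ := Ideal.Quotient.mk_surjective c
        obtain ⟨a, ha⟩ := hdense c
        have h0 : residue O (algebraMap C₀ O (algebraMap C C₀ (c - algebraMap A C a))) = 0 :=
          (residue_eq_zero_iff _).2 (hm _ ha)
        rw [map_sub, map_sub, map_sub, sub_eq_zero, ← IsScalarTower.algebraMap_apply A C C₀,
          ← IsScalarTower.algebraMap_apply A C₀ O] at h0
        have h1 : residue O (Ideal.Quotient.mk p c • y) = a • residue O y := by
          rw [Algebra.smul_def, map_mul]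
          refine (congrArg (· * residue O y) h0).trans ?_
          rw [Algebra.smul_def]
          rfl
        rw [h1]
        exact Submodule.smul_mem _ a (hy trivial)
    let ι : (integralClosure A K' ⧸ N) →ₐ[A] ResidueField O :=
      Ideal.Quotient.liftₐ N ((IsScalarTower.toAlgHom A O (ResidueField O)).comp ψ)
        fun x hx => (residue_eq_zero_iff (ψ x)).2 hx
    letI : Field (integralClosure A K' ⧸ N) := Ideal.Quotient.field N
    exact Module.Finite.of_injective ι.toLinearMap ι.toRingHom.injective
  · intro b hb B _ _ θ hθ P hP hle β hβ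
    let f : B →+* O :=
      { toFun := fun z => ⟨θ z, (hθ z).tower_top⟩
        map_one' := Subtype.ext (map_one θ)
        map_mul' := fun x y => Subtype.ext (map_mul θ x y)
        map_zero' := Subtype.ext (map_zero θ)
        map_add' := fun x y => Subtype.ext (map_add θ x y) }
    letI : Algebra B O := f.toAlgebra
    haveI : IsScalarTower C C₀ O := .of_algebraMap_eq fun c => Subtype.ext rfl
    haveI : IsScalarTower C B O := .of_algebraMap_eq fun c => Subtype.ext (θ.commutes c).symm
    haveI : Module.Finite C O := Module.Finite.trans C₀ O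
    haveI : Algebra.IsIntegral C O := Algebra.IsIntegral.of_finite C O
    haveI : Algebra.IsIntegral B O := Algebra.IsIntegral.tower_top C
    obtain ⟨Q', -, hQ', hQP⟩ := Ideal.exists_ideal_over_prime_of_isIntegral P (⊥ : Ideal O) (by
      refine le_trans (fun z hz => ?_) hle
      rw [Ideal.mem_comap, Ideal.mem_bot] at hz
      exact congrArg Subtype.val hz)
    intro hmem
    rw [← hQP] at hmem
    refine hQ'.ne_top (Ideal.eq_top_of_isUnit_mem _ hmem ?_)
    have : f β = ψ b := Subtype.ext hβ
    show IsUnit (f β)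
    rw [this]
    exact IsLocalRing.notMem_maximalIdeal.1 hb

set_option synthInstance.maxHeartbeats 200000 in
/-- The maximal ideal attached to a minimal prime of `Â ⊗ K'`. -/
theorem exists_maximal_of_minimalPrime (Q : Ideal (EGA4.Cpl A ⊗[A] K')) [Q.IsPrime] :
    ∃ N : Ideal (integralClosure A K'), N.IsMaximal ∧ Module.Finite A (integralClosure A K' ⧸ N) ∧
      ∀ b ∉ N, ∀ (B : Type u) [CommRing B] [Algebra (EGA4.Cpl A) B]
        (μ : B →ₐ[EGA4.Cpl A] EGA4.Cpl A ⊗[A] K'), (∀ z, IsIntegral (EGA4.Cpl A) (μ z)) →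
        ∀ P : Ideal B, P.IsPrime → Q.comap μ.toRingHom ≤ P → ∀ β : B, μ β = 1 ⊗ₜ[A] (b : K') → β ∉ P := by
  haveI := FlatLoc6.isLocalRing_cpl A
  haveI := FlatLoc6.isNoetherianRing_cpl A
  haveI : IsAdicComplete (maximalIdeal (EGA4.Cpl A)) (EGA4.Cpl A) := FormCat.isAdicComplete_cpl A
  let C := EGA4.Cpl A
  let T := C ⊗[A] K'
  let D := T ⧸ Q
  let L := FractionRing D
  let π : T →ₐ[C] L := (IsScalarTower.toAlgHom C D L).comp (Ideal.Quotient.mkₐ C Q)
  let φ : K' →ₐ[A] L := (π.restrictScalars A).comp Algebra.TensorProduct.includeRight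
  obtain ⟨N, h1, h2, h3⟩ := exists_maximal_of_point C L (CAlgOdd.NagataFT.cpl_map_max (A := A))
    (fun c => CAlgOdd.NagataFT.cpl_map_max (A := A) ▸ CAlgOdd.NagataFT.cpl_dense c) φ fun F hC hK => by
      have hT : ∀ t : T, π t ∈ F := fun t => by
        induction t using TensorProduct.induction_on with
        | zero => rw [map_zero]; exact zero_mem _
        | tmul c x =>
          rw [show c ⊗ₜ[A] x = algebraMap C T c * ((1 : C) ⊗ₜ[A] x) by
            rw [Algebra.TensorProduct.algebraMap_apply, Algebra.TensorProduct.tmul_mul_tmul, mul_one, one_mul]; rfl,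
            map_mul, AlgHom.commutes]
          exact mul_mem (hC c) (hK x)
        | add x y hx hy => rw [map_add]; exact add_mem hx hy
      refine eq_top_iff.2 fun z _ => ?_
      obtain ⟨x, y, -, rfl⟩ := IsFractionRing.div_surjective (A := D) z
      obtain ⟨x, rfl⟩ := Ideal.Quotient.mk_surjective x
      obtain ⟨y, rfl⟩ := Ideal.Quotient.mk_surjective y
      exact div_mem (hT x) (hT y)
  refine ⟨N, h1, h2, fun b hb B _ _ μ hμ P hP hle β hβ => h3 b hb B (π.comp μ) (fun z => (hμ z).map π) P hP ?_ β
    (congrArg π hβ)⟩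
  refine le_trans (fun z hz => ?_) hle
  show μ z ∈ Q
  exact Ideal.Quotient.eq_zero_iff_mem.1 (IsFractionRing.injective D L
    ((RingHom.mem_ker.1 hz).trans (map_zero (algebraMap D L)).symm))

/-- The integral closure of a Noetherian local domain in a finite extension field is semilocal, with finite
residue extensions. -/
theorem finite_maximal_integralClosure :
    {m : Ideal (integralClosure A K') | m.IsMaximal}.Finite ∧
      ∀ (m : Ideal (integralClosure A K')), m.IsMaximal → Module.Finite A (integralClosure A K' ⧸ m) := by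
  classical
  haveI := FlatLoc6.isNoetherianRing_cpl A
  haveI := FlatLoc6.faithfullyFlat_cpl A
  haveI : Algebra.EssFiniteType A (FractionRing A) :=
    Algebra.EssFiniteType.of_isLocalization (FractionRing A) (nonZeroDivisors A)
  haveI : Algebra.EssFiniteType A K' := Algebra.EssFiniteType.comp A (FractionRing A) K'
  haveI : IsNoetherianRing (EGA4.Cpl A ⊗[A] K') := Algebra.EssFiniteType.isNoetherianRing (EGA4.Cpl A) _
  let C := EGA4.Cpl A
  let ι := {Q : Ideal (C ⊗[A] K') // Q ∈ minimalPrimes _}
  haveI : Finite ι := (minimalPrimes.finite_of_isNoetherianRing _).to_subtype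
  haveI := Fintype.ofFinite ι
  choose N hN hfin hb using fun Q : ι =>
    haveI : Q.1.IsPrime := Q.2.1.1
    exists_maximal_of_minimalPrime (A := A) (K' := K') Q.1
  have hsub : ∀ m : Ideal (integralClosure A K'), m.IsMaximal → ∃ Q, N Q = m := by
    intro m hm
    by_contra hne
    push Not at hne
    have hex : ∀ Q : ι, ∃ x ∈ m, x ∉ N Q := fun Q => by
      by_contra h
      push Not at h
      exact hne Q (hm.eq_of_le (hN Q).ne_top h).symm
    obtain ⟨hι⟩ : Nonempty ι := Ideal.nonempty_minimalPrimes (I := (⊥ : Ideal (C ⊗[A] K'))) bot_ne_top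
    -- prime avoidance
    obtain ⟨b, hbm, hbN⟩ : ∃ b ∈ m, ∀ Q, b ∉ N Q := by
      by_contra h
      push Not at h
      obtain ⟨Q, -, hQ⟩ := (Ideal.subset_union_prime (s := (Finset.univ : Finset ι)) (f := N)
        hι hι fun Q _ _ _ => (hN Q).isPrime).1 fun x hx => by
          obtain ⟨Q, hQ⟩ := h x hx
          exact Set.mem_biUnion (Finset.mem_coe.2 (Finset.mem_univ Q)) hQ
      obtain ⟨x, hx, hx'⟩ := hex Q
      exact hx' (hQ hx)
    let B := Algebra.adjoin A ({(b : K')} : Set K')
    let b' : B := ⟨(b : K'), Algebra.self_mem_adjoin_singleton A (b : K')⟩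
    have hB : B ≤ integralClosure A K' := Algebra.adjoin_le (Set.singleton_subset_iff.2 b.2)
    let μ : C ⊗[A] B →ₐ[C] C ⊗[A] K' := Algebra.TensorProduct.map (AlgHom.id C C) B.val
    have hμ : Function.Injective μ.toRingHom :=
      Module.Flat.lTensor_preserves_injective_linearMap (M := C) B.val.toLinearMap Subtype.val_injective
    have hint : ∀ z, IsIntegral C (μ z) := fun z => by
      induction z using TensorProduct.induction_on with
      | zero => rw [map_zero]; exact isIntegral_zero
      | tmul c x =>
        rw [show c ⊗ₜ[A] x = c • ((1 : C) ⊗ₜ[A] x) by rw [TensorProduct.smul_tmul', smul_eq_mul, mul_one], map_smul]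
        exact (((hB x.2 : IsIntegral A (x : K')).map
          (Algebra.TensorProduct.includeRight : K' →ₐ[A] C ⊗[A] K')).tower_top).smul c
      | add x y hx hy => rw [map_add]; exact hx.add hy
    have hu : IsUnit ((1 : C) ⊗ₜ[A] b') := by
      by_contra hu
      obtain ⟨P, hP, hbP⟩ := exists_max_ideal_of_mem_nonunits hu
      obtain ⟨P₀, hP₀, hP₀P⟩ := Ideal.exists_minimalPrimes_le (bot_le : (⊥ : Ideal (C ⊗[A] B)) ≤ P)
      obtain ⟨P₁, h1, -, h2⟩ := Ideal.exists_comap_eq_of_mem_minimalPrimes μ.toRingHom (I := ⊥) P₀ (by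
        rwa [Ideal.comap_bot_of_injective _ hμ])
      obtain ⟨Q, hQ, hQP₁⟩ := Ideal.exists_minimalPrimes_le (bot_le : (⊥ : Ideal (C ⊗[A] K')) ≤ P₁)
      refine hb ⟨Q, hQ⟩ b (hbN _) (C ⊗[A] B) μ hint P hP.isPrime
        ((Ideal.comap_mono (f := μ.toRingHom) hQP₁).trans (h2.le.trans hP₀P)) ((1 : C) ⊗ₜ[A] b') ?_ hbP
      rfl
    have hub : IsUnit b' := by
      rw [← Ideal.span_singleton_eq_top, ← Ideal.comap_map_eq_self_of_faithfullyFlat (B := B ⊗[A] C)
        (Ideal.span {b'}), Ideal.map_span, Set.image_singleton, Ideal.span_singleton_eq_top.2, Ideal.comap_top]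
      exact hu.map (Algebra.TensorProduct.comm A C B)
    exact hm.ne_top (Ideal.eq_top_of_isUnit_mem _ hbm (hub.map (Subalgebra.inclusion hB)))
  exact ⟨(Set.finite_range N).subset fun m hm => hsub m hm,
    fun m hm => by obtain ⟨Q, rfl⟩ := hsub m hm; exact hfin Q⟩

end Groth.Agent.E4Loc
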