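import Groth.Agent.E4Loc.Frac
import Groth.Agent.E4Loc.SemiLocal
import Groth.Agent.S2747
import Groth.Agent.S0537
import Mathlib

/-! Normalizations of essentially étale local algebras over reduced local rings. -/

set_option autoImplicit false
set_option linter.style.haveILetI false
set_option linter.unusedSectionVars false

universe u

open IsLocalRing
open scoped nonZeroDivisors

namespace Groth.Agent.E4Loc

/-- An essentially étale local algebra embeds into a strict henselization of the base. -/
theorem exists_embedding (A E : Type u) [CommRing A] [IsLocalRing A] [CommRing E] [IsLocalRing E] [Algebra A E]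
    (hE : EGA4loc.IsEssentiallyEtale A E) (S : Type u) [CommRing S] [IsLocalRing S] [Algebra A S]
    [IsLocalHom (algebraMap A S)] [Hensel.IsStrictHenselization A S] :
    ∃ ψ : E →ₐ[A] S, IsLocalHom ψ.toRingHom ∧ Function.Injective ψ := by
  haveI := EssEtLib.isLocalHom_algebraMap hE
  haveI := EtAlg7.formallyUnramified hE
  haveI := EtAlg7.essFiniteType hE
  haveI := S0539.result A S
  haveI : HenselianLocalRing S := Hensel.IsStrictHenselization.henselian (R := A)
  haveI := (Hensel.IsStrictHenselization.isSepClosure (R := A) (S := S)).sep_closed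
  haveI : Algebra.IsSeparable (ResidueField A) (ResidueField E) :=
    (Algebra.FormallyUnramified.iff_map_maximalIdeal_eq.mp ‹Algebra.FormallyUnramified A E›).1
  let α : ResidueField E →ₐ[ResidueField A] ResidueField S := IsSepClosed.lift
  obtain ⟨ψ, -, -⟩ := EtAlg7.existsUnique_algHom hE (B := S) α.toRingHom fun a => by
    have h := α.commutes (residue A a)
    rw [← ResidueField.map_residue (algebraMap A E), ← ResidueField.map_residue (algebraMap A S)]
    exact h
  haveI : IsLocalHom ψ.toRingHom := S17977.result A E hE S ψ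
  exact ⟨ψ, inferInstance, injective_algHom ψ⟩

theorem isReduced_of_essEtale (A E : Type u) [CommRing A] [IsLocalRing A] [IsReduced A] [CommRing E]
    [IsLocalRing E] [Algebra A E] (hE : EGA4loc.IsEssentiallyEtale A E) : IsReduced E := by
  obtain ⟨S, _, _, _, _, _⟩ := S0537.result A
  obtain ⟨ψ, -, hψ⟩ := exists_embedding A E hE S
  haveI : IsReduced S := (S2747.result A S).2 inferInstance
  exact isReduced_of_injective ψ hψ

/-- The normalization of a reduced Noetherian local ring is semilocal, with finite residue extensions. -/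
theorem finite_maximal_reduced (E : Type u) [CommRing E] [IsLocalRing E] [IsNoetherianRing E] [IsReduced E] :
    {M : Ideal (integralClosure E (FractionRing E)) | M.IsMaximal}.Finite ∧
      ∀ M : Ideal (integralClosure E (FractionRing E)), M.IsMaximal →
        Module.Finite E (integralClosure E (FractionRing E) ⧸ M) := by
  classical
  let KE := FractionRing E
  let E' := integralClosure E KE
  haveI : Finite (minimalPrimes E) := (minimalPrimes.finite_of_isNoetherianRing E).to_subtype
  haveI hp : ∀ p : minimalPrimes E, p.1.IsPrime := fun p => p.2.1.1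
  have hu : ∀ (p : minimalPrimes E) (y : E⁰),
      IsUnit (algebraMap E (FractionRing (E ⧸ p.1)) y) := fun p y => by
    refine IsUnit.mk0 _ fun h => ?_
    rw [IsScalarTower.algebraMap_apply E (E ⧸ p.1) (FractionRing (E ⧸ p.1)), IsFractionRing.to_map_eq_zero_iff] at h
    exact Set.disjoint_left.1 (Ideal.disjoint_nonZeroDivisors_of_mem_minimalPrimes p.2)
      (Ideal.Quotient.eq_zero_iff_mem.1 h) y.2
  let g : ∀ p : minimalPrimes E, KE →ₐ[E] FractionRing (E ⧸ p.1) := fun p =>
    IsLocalization.liftAlgHom (M := E⁰) (f := Algebra.ofId E _) (hu p)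
  have hg : ∀ x : KE, (∀ p, g p x = 0) → x = 0 := fun x hx => by
    obtain ⟨e, s, rfl⟩ := IsLocalization.exists_mk'_eq E⁰ x
    rw [IsLocalization.mk'_eq_zero_iff]
    refine ⟨1, ?_⟩
    have he : e ∈ sInf ((⊥ : Ideal E).minimalPrimes) := Ideal.mem_sInf.2 fun {p} hp' => by
      have h := hx ⟨p, hp'⟩
      have h1 : g ⟨p, hp'⟩ (algebraMap E KE e) = 0 := by
        rw [← IsLocalization.mk'_spec KE e s, map_mul, h, zero_mul]
      haveI : p.IsPrime := hp'.1.1
      rw [AlgHom.commutes, IsScalarTower.algebraMap_apply E (E ⧸ p) (FractionRing (E ⧸ p)),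
        IsFractionRing.to_map_eq_zero_iff] at h1
      exact Ideal.Quotient.eq_zero_iff_mem.1 h1
    rw [Ideal.sInf_minimalPrimes, ← Ideal.zero_eq_bot] at he
    rw [OneMemClass.coe_one, one_mul]
    exact (mem_nilradical.1 he).eq_zero
  let O := fun p : minimalPrimes E => integralClosure (E ⧸ p.1) (FractionRing (E ⧸ p.1))
  let ψ : ∀ p, E' →ₐ[E] O p := fun p =>
    { toFun := fun x => ⟨g p x, ((x.2 : IsIntegral E (x : KE)).map (g p)).tower_top⟩
      map_one' := Subtype.ext (map_one (g p))
      map_mul' := fun x y => Subtype.ext (map_mul (g p) (x : KE) (y : KE))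
      map_zero' := Subtype.ext (map_zero (g p))
      map_add' := fun x y => Subtype.ext (map_add (g p) (x : KE) (y : KE))
      commutes' := fun a => Subtype.ext ((g p).commutes a) }
  have hO : ∀ p : minimalPrimes E,
      {m : Ideal (O p) | m.IsMaximal}.Finite ∧
        ∀ m : Ideal (O p), m.IsMaximal → Module.Finite (E ⧸ p.1) (O p ⧸ m) := fun p => by
    haveI : IsLocalRing (E ⧸ p.1) :=
      IsLocalRing.of_surjective' (Ideal.Quotient.mk p.1) Ideal.Quotient.mk_surjective
    exact finite_maximal_integralClosure (A := E ⧸ p.1) (K' := FractionRing (E ⧸ p.1))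
  have hlift : ∀ M : Ideal E', M.IsMaximal → ∃ p, ∃ m : Ideal (O p), m.IsMaximal ∧ m.comap (ψ p) = M := by
    intro M hM
    haveI := Fintype.ofFinite (minimalPrimes E)
    obtain ⟨p, -, hp⟩ : ∃ p ∈ (Finset.univ : Finset (minimalPrimes E)), RingHom.ker (ψ p) ≤ M := by
      refine (Ideal.IsPrime.inf_le' hM.isPrime).1 fun x hx => ?_
      have : x = 0 := Subtype.ext (hg _ fun p => congrArg Subtype.val
        ((Submodule.mem_finsetInf.1 hx) p (Finset.mem_univ p) : ψ p x = 0))
      exact this ▸ M.zero_mem
    letI : Algebra E' (O p) := (ψ p).toRingHom.toAlgebra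
    haveI : IsScalarTower E E' (O p) := .of_algebraMap_eq fun a => ((ψ p).commutes a).symm
    haveI : Module.Finite E (E ⧸ p.1) := inferInstance
    haveI : Algebra.IsIntegral (E ⧸ p.1) (O p) := inferInstance
    haveI : IsScalarTower E (E ⧸ p.1) (O p) := .of_algebraMap_eq fun a => Subtype.ext rfl
    haveI : Algebra.IsIntegral E (O p) := Algebra.IsIntegral.trans (E ⧸ p.1)
    haveI : Algebra.IsIntegral E' (O p) := Algebra.IsIntegral.tower_top E
    haveI := hM.isPrime
    obtain ⟨Q, -, hQ, hQM⟩ := Ideal.exists_ideal_over_prime_of_isIntegral M (⊥ : Ideal (O p)) (by exact hp)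
    haveI := hQ
    exact ⟨p, Q, Ideal.isMaximal_of_isIntegral_of_isMaximal_comap Q (hQM.symm ▸ hM), hQM⟩
  refine ⟨(Set.finite_iUnion fun p : minimalPrimes E => ((hO p).1.image fun m => m.comap (ψ p))).subset
    fun M hM => ?_, fun M hM => ?_⟩
  · obtain ⟨p, m, hm, rfl⟩ := hlift M hM
    exact Set.mem_iUnion.2 ⟨p, m, hm, rfl⟩
  · obtain ⟨p, m, hm, rfl⟩ := hlift M hM
    haveI := (hO p).2 m hm
    haveI : IsScalarTower E (E ⧸ p.1) (O p) := .of_algebraMap_eq fun a => Subtype.ext rfl
    haveI : IsScalarTower E (E ⧸ p.1) (O p ⧸ m) :=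
      IsScalarTower.of_algebraMap_eq (R := E) (S := E ⧸ p.1) (A := O p ⧸ m) fun a => rfl
    haveI : Module.Finite E (O p ⧸ m) := Module.Finite.trans (E ⧸ p.1) (O p ⧸ m)
    exact Module.Finite.of_injective
      (Ideal.Quotient.liftₐ (m.comap (ψ p)) ((Ideal.Quotient.mkₐ E m).comp (ψ p))
        fun x hx => Ideal.Quotient.eq_zero_iff_mem.2 hx).toLinearMap
      (by
        intro x y h
        obtain ⟨x, rfl⟩ := Ideal.Quotient.mk_surjective x
        obtain ⟨y, rfl⟩ := Ideal.Quotient.mk_surjective y
        refine Ideal.Quotient.eq.2 ?_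
        show ψ p (x - y) ∈ m
        rw [map_sub]
        exact Ideal.Quotient.eq.1 h)

variable (A E : Type u) [CommRing A] [IsLocalRing A] [IsReduced A] [IsNoetherianRing A] [CommRing E]
  [IsLocalRing E] [Algebra A E] (hE : EGA4loc.IsEssentiallyEtale A E)

include hE in
/-- Residue fields of the normalization of an essentially étale algebra are finite over the base. -/
theorem finite_residue_normalization :
    {M : Ideal (integralClosure E (FractionRing E)) | M.IsMaximal}.Finite ∧
      ∀ M : Ideal (integralClosure E (FractionRing E)), M.IsMaximal →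
        Module.Finite A (integralClosure E (FractionRing E) ⧸ M) := by
  haveI := EssEtLib.isLocalHom_algebraMap hE
  haveI := EtAlg7.formallyUnramified hE
  haveI := EtAlg7.essFiniteType hE
  haveI : IsNoetherianRing E := Algebra.EssFiniteType.isNoetherianRing A E
  haveI := isReduced_of_essEtale A E hE
  obtain ⟨h1, h2⟩ := finite_maximal_reduced E
  refine ⟨h1, fun M hM => ?_⟩
  haveI := h2 M hM
  haveI : Algebra.IsIntegral E (integralClosure E (FractionRing E)) := inferInstance
  have hMm : M.comap (algebraMap E (integralClosure E (FractionRing E))) = maximalIdeal E :=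
    haveI := hM
    IsLocalRing.eq_maximalIdeal (Ideal.isMaximal_comap_of_isIntegral_of_isMaximal M)
  haveI : Module.Finite (ResidueField A) (ResidueField E) := inferInstance
  haveI : Module.Finite A (ResidueField A) :=
    Module.Finite.of_surjective (Algebra.linearMap A (ResidueField A)) residue_surjective
  haveI : Module.Finite A (ResidueField E) := Module.Finite.trans (ResidueField A) (ResidueField E)
  classical
  obtain ⟨S, hS⟩ := Module.Finite.fg_top (R := E) (M := integralClosure E (FractionRing E) ⧸ M)
  obtain ⟨T, hT⟩ := Module.Finite.fg_top (R := A) (M := ResidueField E)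
  choose lift hlift using fun r : ResidueField E => residue_surjective r
  have hkill : ∀ μ ∈ maximalIdeal E, ∀ x : integralClosure E (FractionRing E) ⧸ M, μ • x = 0 := fun μ hμ x => by
    obtain ⟨x, rfl⟩ := Ideal.Quotient.mk_surjective x
    rw [← Ideal.Quotient.mkₐ_eq_mk E, ← map_smul, Ideal.Quotient.mkₐ_eq_mk, Ideal.Quotient.eq_zero_iff_mem,
      Algebra.smul_def]
    exact M.mul_mem_right _ (hMm.ge hμ)
  refine ⟨⟨(S ×ˢ T).image fun z => lift z.2 • z.1, eq_top_iff.2 fun x _ => ?_⟩⟩
  have h : ∀ e : E, e • x ∈ Submodule.span A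
      (↑((S ×ˢ T).image fun z => lift z.2 • z.1) : Set (integralClosure E (FractionRing E) ⧸ M)) := by
    have hx : x ∈ Submodule.span E (S : Set (integralClosure E (FractionRing E) ⧸ M)) := hS ▸ trivial
    induction hx using Submodule.span_induction with
    | mem y hy =>
      intro e
      have hr : residue E e ∈ Submodule.span A (T : Set (ResidueField E)) := hT ▸ trivial
      suffices ∀ r ∈ Submodule.span A (T : Set (ResidueField E)), ∀ e, residue E e = r → e • y ∈ Submodule.span A
          (↑((S ×ˢ T).image fun z => lift z.2 • z.1) : Set (integralClosure E (FractionRing E) ⧸ M)) from this _ hr e rfl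
      intro r hr
      induction hr using Submodule.span_induction with
      | mem t ht =>
        intro e he
        have h1 : (e - lift t) • y = 0 := hkill _ (by rw [← residue_eq_zero_iff, map_sub, he, hlift, sub_self]) y
        rw [sub_smul, sub_eq_zero] at h1
        rw [h1]
        exact Submodule.subset_span (Finset.mem_coe.2 (Finset.mem_image.2
          ⟨(y, t), Finset.mem_product.2 ⟨Finset.mem_coe.1 hy, Finset.mem_coe.1 ht⟩, rfl⟩))
      | zero =>
        intro e he
        rw [hkill e ((residue_eq_zero_iff e).1 he) y]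
        exact zero_mem _
      | add r r' _ _ h1 h2 =>
        intro e he
        have h3 : (e - lift r - lift r') • y = 0 := hkill _ (by
          rw [← residue_eq_zero_iff, map_sub, map_sub, he, hlift, hlift, add_sub_cancel_left, sub_self]) y
        rw [sub_smul, sub_smul, sub_sub, sub_eq_zero] at h3
        rw [h3]
        exact add_mem (h1 _ (hlift r)) (h2 _ (hlift r'))
      | smul a r _ h1 =>
        intro e he
        have h3 : (e - a • lift r) • y = 0 := hkill _ (by
          rw [← residue_eq_zero_iff, map_sub, he, sub_eq_zero, Algebra.smul_def, Algebra.smul_def, map_mul, hlift]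
          rfl) y
        rw [sub_smul, smul_assoc, sub_eq_zero] at h3
        rw [h3]
        exact Submodule.smul_mem _ a (h1 _ (hlift r))
    | zero => intro e; rw [smul_zero]; exact zero_mem _
    | add y z _ _ hy hz => intro e; rw [smul_add]; exact add_mem (hy trivial e) (hz trivial e)
    | smul c y _ hy => intro e; rw [smul_smul]; exact hy trivial _
  simpa using h 1

variable (L : Subalgebra A (FractionRing E))
  (hL : ∀ s ∈ A⁰, ∃ y ∈ L, algebraMap A (FractionRing E) s * y = 1)

include hE hL in
/-- An intermediate ring between total fraction rings contains the inverses of its units and has integral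
multiples. -/
theorem inv_mem_and_integral_multiple :
    (∀ l ∈ L, ∀ v, l * v = 1 → v ∈ L) ∧
      ∀ x : FractionRing E, ∃ a ∈ A⁰, IsIntegral A (algebraMap A (FractionRing E) a * x) := by
  haveI := EssEtLib.isLocalHom_algebraMap hE
  have hmin := minimalPrimes.finite_of_isNoetherianRing A
  obtain ⟨_, _, _⟩ := exists_kStructure A E hmin hE
  haveI := EssEtFrac5.isArtinianRing_fractionRing hmin
  let K := FractionRing A
  let KE := FractionRing E
  have hu : ∀ a : A⁰, IsUnit (algebraMap A KE a) := fun a => by
    obtain ⟨y, -, hy⟩ := hL a a.2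
    exact IsUnit.of_mul_eq_one _ hy
  have hinvL : ∀ a : A⁰, ∀ y, algebraMap A KE a * y = 1 → y ∈ L := fun a y hy => by
    obtain ⟨y', hy', hy''⟩ := hL a a.2
    rwa [(hu a).mul_left_cancel (hy.trans hy''.symm)]
  have hK : ∀ c : K, algebraMap K KE c ∈ L := fun c => by
    obtain ⟨r, a, rfl⟩ := IsLocalization.exists_mk'_eq A⁰ c
    rw [IsLocalization.mk'_eq_mul_mk'_one, map_mul, ← IsScalarTower.algebraMap_apply A K KE]
    refine L.mul_mem (L.algebraMap_mem r) (hinvL a _ ?_)
    rw [IsScalarTower.algebraMap_apply A K KE, ← map_mul, mul_comm, IsLocalization.mk'_spec, map_one, map_one]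
  let L' : Submodule K KE :=
    { L.toSubsemiring.toAddSubmonoid with
      smul_mem' := fun c x hx => by rw [Algebra.smul_def]; exact L.mul_mem (hK c) hx }
  refine ⟨fun l hl v hv => ?_, fun x => ?_⟩
  · let μ : ↥L' →ₗ[K] ↥L' :=
      { toFun := fun x => ⟨l * x, L.mul_mem hl x.2⟩
        map_add' := fun x y => Subtype.ext (mul_add l x.1 y.1)
        map_smul' := fun c x => Subtype.ext (mul_smul_comm c l x.1) }
    have hμ : Function.Injective μ := fun x y h =>
      Subtype.ext ((IsUnit.of_mul_eq_one v hv).mul_left_cancel (congrArg Subtype.val h))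
    obtain ⟨⟨y, hy⟩, hy'⟩ := (IsArtinian.bijective_of_injective_endomorphism μ hμ).2 ⟨1, L.one_mem⟩
    have : l * y = l * v := (congrArg Subtype.val hy').trans hv.symm
    rwa [← (IsUnit.of_mul_eq_one v hv).mul_left_cancel this]
  · obtain ⟨a, ha⟩ := IsIntegral.exists_multiple_integral_of_isLocalization A⁰ x (Algebra.IsIntegral.isIntegral (R := K) x)
    refine ⟨a, a.2, ?_⟩
    have h : (a : A⁰) • x = algebraMap A KE a * x := by rw [Submonoid.smul_def, Algebra.smul_def]
    rwa [h] at ha

end Groth.Agent.E4Loc
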