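import Groth.Agent.E4Loc.Frac
import Groth.Agent.EGA41Lib.IntDim
import Groth.Agent.DescLib.EtaleLocal
import Groth.Agent.S2748
import Groth.Agent.S0537
import Groth.Agent.S16438
import Mathlib

/-! Normal local subalgebras of a strict henselization. -/

set_option autoImplicit false
set_option linter.style.haveILetI false
set_option linter.unusedSectionVars false

universe u

open IsLocalRing
open scoped nonZeroDivisors

namespace Groth.Agent.E4Loc

/-- An unramified local extension of a normal domain with the same dimension is essentially étale. -/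
theorem isEssentiallyEtale_of_normal (R E : Type u) [CommRing R] [IsLocalRing R] [IsNoetherianRing R] [IsDomain R]
    [IsIntegrallyClosed R] [CommRing E] [IsLocalRing E] [Algebra R E] [IsLocalHom (algebraMap R E)]
    [Algebra.EssFiniteType R E] [Algebra.FormallyUnramified R E] (hdim : ringKrullDim R ≤ ringKrullDim E) :
    EGA4loc.IsEssentiallyEtale R E := by
  obtain ⟨G, _, _, _, φ, hG, hφ, hloc⟩ := exists_cover (A := R) E
  haveI := EssEtLib.isLocalHom_algebraMap hG
  haveI := EtAlg7.formallyUnramified hG
  haveI := EtAlg7.essFiniteType hG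
  haveI := flat_of_isEssentiallyEtale hG
  obtain ⟨T, _, _, _, _, _⟩ := S0537.result R
  obtain ⟨hT, -⟩ := (S2748.result R T).2 ⟨inferInstance, inferInstance⟩
  haveI := hT
  haveI := S0539.result R T
  haveI : HenselianLocalRing T := Hensel.IsStrictHenselization.henselian (R := R)
  haveI := (Hensel.IsStrictHenselization.isSepClosure (R := R) (S := T)).sep_closed
  haveI : Algebra.IsSeparable (ResidueField R) (ResidueField G) :=
    (Algebra.FormallyUnramified.iff_map_maximalIdeal_eq.mp ‹Algebra.FormallyUnramified R G›).1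
  let α : ResidueField G →ₐ[ResidueField R] ResidueField T := IsSepClosed.lift
  obtain ⟨ψ, -, -⟩ := EtAlg7.existsUnique_algHom hG (B := T) α.toRingHom fun a => by
    have h := α.commutes (residue R a)
    rw [← ResidueField.map_residue (algebraMap R G), ← ResidueField.map_residue (algebraMap R T)]
    exact h
  haveI : IsLocalHom ψ.toRingHom := S17977.result R G hG T ψ
  haveI : IsDomain G := (injective_algHom ψ).isDomain
  haveI : IsNoetherianRing G := Algebra.EssFiniteType.isNoetherianRing R G
  refine isEssentiallyEtale_congr hG (AlgEquiv.ofBijective φ ⟨?_, hφ⟩)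
  rw [injective_iff_map_eq_zero]
  intro r hr
  by_contra hr0
  have h1 := (ringKrullDim_succ_le_of_surjective φ.toRingHom hφ (mem_nonZeroDivisors_of_ne_zero hr0) hr).trans
    ((DescLib.ringKrullDim_eq_of_flat_unramified R G).le.trans hdim)
  haveI : IsNoetherianRing E := Algebra.EssFiniteType.isNoetherianRing R E
  obtain ⟨d, hd⟩ := LC.exists_supportDim_eq_nat (R := E) E
  rw [Module.supportDim_self_eq_ringKrullDim] at hd
  rw [hd] at h1
  exact absurd (show d + 1 ≤ d by exact_mod_cast h1) (by omega)

variable (A : Type u) [CommRing A] [IsLocalRing A] [IsDomain A] [IsIntegrallyClosed A] [IsNoetherianRing A]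
  (S : Type u) [CommRing S] [IsLocalRing S] [Algebra A S] [IsLocalHom (algebraMap A S)]
  [Hensel.IsStrictHenselization A S]

include A in
theorem isDomain_strictHenselization : IsDomain S :=
  ((S2748.result A S).2 ⟨inferInstance, inferInstance⟩).1

/-- A subalgebra with finitely generated fraction field lies in an essentially étale subalgebra. -/
theorem exists_le_of_field_fg [IsDomain S] (D : Subalgebra A S)
    (hfg : ∃ s : Finset D, Subfield.closure (Set.range (algebraMap A (FractionRing D)) ∪
        (algebraMap D (FractionRing D)) '' (s : Set D)) = ⊤) :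
    ∃ E : Subalgebra A S, D ≤ E ∧
      ∃ _ : IsLocalRing E, IsLocalHom (algebraMap E S) ∧ EGA4loc.IsEssentiallyEtale A E := by
  classical
  haveI := S0539.result A S
  obtain ⟨s, hs⟩ := hfg
  obtain ⟨E, hsub, hEl, hES, hE⟩ := exists_subalgebra A S (s.image fun z : D => (z : S))
  refine ⟨E, fun x hx => ?_, hEl, hES, hE⟩
  haveI := hES
  haveI := EtAlg7.formallyUnramified hE
  haveI := EtAlg7.essFiniteType hE
  haveI := faithfullyFlat_of_unramified (A := A) (E := E) (T := S)
  have key : ∀ y ∈ Subring.closure (Set.range (algebraMap A (FractionRing D)) ∪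
      (algebraMap D (FractionRing D)) '' (s : Set D)), ∃ d : D, (d : S) ∈ E ∧ algebraMap D (FractionRing D) d = y := by
    intro y hy
    induction hy using Subring.closure_induction with
    | mem z hz =>
      rcases hz with ⟨a, rfl⟩ | ⟨d, hd, rfl⟩
      · exact ⟨algebraMap A D a, E.algebraMap_mem a, (IsScalarTower.algebraMap_apply A D (FractionRing D) a).symm⟩
      · exact ⟨d, hsub (Finset.mem_image.2 ⟨d, hd, rfl⟩), rfl⟩
    | zero => exact ⟨0, E.zero_mem, map_zero _⟩
    | one => exact ⟨1, E.one_mem, map_one _⟩
    | add a b _ _ ha hb =>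
      obtain ⟨d, hd, rfl⟩ := ha
      obtain ⟨d', hd', rfl⟩ := hb
      exact ⟨d + d', E.add_mem hd hd', map_add _ _ _⟩
    | neg a _ ha =>
      obtain ⟨d, hd, rfl⟩ := ha
      exact ⟨-d, E.neg_mem hd, map_neg _ _⟩
    | mul a b _ _ ha hb =>
      obtain ⟨d, hd, rfl⟩ := ha
      obtain ⟨d', hd', rfl⟩ := hb
      exact ⟨d * d', E.mul_mem hd hd', map_mul _ _ _⟩
  obtain ⟨y, hy, z, hz, hyz⟩ := Subfield.mem_closure_iff.1
    (hs ▸ Subfield.mem_top _ : algebraMap D (FractionRing D) ⟨x, hx⟩ ∈ _)
  obtain ⟨d₁, hd₁, rfl⟩ := key y hy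
  obtain ⟨d₂, hd₂, rfl⟩ := key z hz
  rcases eq_or_ne d₂ 0 with h0 | h0
  · subst h0
    rw [map_zero, div_zero] at hyz
    have : x = 0 := congrArg (fun w : D => (w : S)) ((map_eq_zero_iff _ (IsFractionRing.injective D _)).1 hyz.symm)
    exact this ▸ E.zero_mem
  have heq : d₂ * ⟨x, hx⟩ = d₁ := IsFractionRing.injective D (FractionRing D) (by
    rw [map_mul, ← hyz, mul_div_cancel₀ _ ((map_ne_zero_iff _ (IsFractionRing.injective D _)).2 h0)])
  haveI : IsDomain E := Subalgebra.isDomain E
  obtain ⟨e, he⟩ := mem_range_of_mul_mem (E := E) (T := S) (a := ⟨d₂, hd₂⟩)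
    (mem_nonZeroDivisors_of_ne_zero fun h => h0 (Subtype.ext (congrArg (fun w : E => (w : S)) h)))
    (x := x) ⟨⟨d₁, hd₁⟩, congrArg (fun w : D => (w : S)) heq⟩
  exact he ▸ e.2

set_option maxHeartbeats 1000000 in
/-- A normal local subalgebra inside an essentially étale one is essentially étale. -/
theorem isEssentiallyEtale_of_le [IsDomain S] (D E : Subalgebra A S) [IsLocalRing D] [IsLocalHom (algebraMap D S)]
    [IsIntegrallyClosed D] [IsLocalRing E] [IsLocalHom (algebraMap E S)] (hDE : D ≤ E)
    (hE : EGA4loc.IsEssentiallyEtale A E) : EGA4loc.IsEssentiallyEtale A D := by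
  classical
  haveI := S0539.result A S
  haveI : IsDomain D := Subalgebra.isDomain D
  haveI : IsDomain E := Subalgebra.isDomain E
  haveI := EssEtLib.isLocalHom_algebraMap hE
  haveI := EtAlg7.formallyUnramified hE
  haveI := EtAlg7.essFiniteType hE
  haveI : IsNoetherianRing E := Algebra.EssFiniteType.isNoetherianRing A E
  haveI := flat_of_isEssentiallyEtale hE
  obtain ⟨_, _, _⟩ := exists_kStructure A E
    (by rw [IsDomain.minimalPrimes_eq_singleton_bot]; exact Set.finite_singleton _) hE
  let K := FractionRing A
  let L := FractionRing E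
  haveI : Algebra.FormallyUnramified E L := Algebra.FormallyUnramified.of_isLocalization E⁰
  haveI : Algebra.FormallyUnramified A L := Algebra.FormallyUnramified.comp A E L
  haveI : Algebra.FormallyUnramified K L := Algebra.FormallyUnramified.of_restrictScalars A K L
  haveI : Algebra.IsSeparable K L := Algebra.FormallyUnramified.isSeparable K L
  -- the integral closure of `A` in `D`
  let A' := integralClosure A D
  let incl : D →ₐ[A] L := (IsScalarTower.toAlgHom A E L).comp (Subalgebra.inclusion hDE)
  have hincl : Function.Injective incl :=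
    (IsFractionRing.injective E L).comp (Subalgebra.inclusion_injective hDE)
  haveI : Module.Finite A (integralClosure A L) := IsIntegralClosure.finite A K L _
  let f : A' →ₗ[A] integralClosure A L :=
    { toFun := fun x => ⟨incl x, (x.2 : IsIntegral A (x : D)).map incl⟩
      map_add' := fun x y => Subtype.ext (map_add incl (x : D) (y : D))
      map_smul' := fun a x => Subtype.ext (map_smul incl a (x : D)) }
  haveI : Module.Finite A A' := Module.Finite.of_injective f fun x y h =>
    Subtype.ext (hincl (congrArg Subtype.val h))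
  haveI : IsNoetherianRing A' := IsNoetherianRing.of_finite A A'
  haveI : Algebra.IsIntegral A A' := Algebra.IsIntegral.of_finite A A'
  -- every element of `D` is a fraction
  have hfrac : ∀ d : D, ∃ a : A, a ≠ 0 ∧ a • d ∈ A' := fun d => by
    obtain ⟨a, ha, hint⟩ := (IsAlgebraic.exists_integral_multiple
      ((IsFractionRing.isAlgebraic_iff A K L).2 (Algebra.IsAlgebraic.isAlgebraic (incl d))))
    refine ⟨a, ha, (isIntegral_algHom_iff incl hincl).1 ?_⟩
    rwa [map_smul]
  have hA0 : Function.Injective (algebraMap A D) := fun a b h =>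
    FaithfulSMul.algebraMap_injective A S (congrArg (fun w : D => (w : S)) h)
  haveI : IsIntegrallyClosed A' := by
    refine (isIntegrallyClosed_iff (FractionRing A')).2 fun {x} hx => ?_
    let g : FractionRing A' →ₐ[A] FractionRing D := IsLocalization.liftAlgHom (M := A'⁰)
      (f := (IsScalarTower.toAlgHom A D (FractionRing D)).comp A'.val) fun y =>
        IsUnit.mk0 _ ((map_ne_zero_iff _ (IsFractionRing.injective D (FractionRing D))).2 fun h =>
          nonZeroDivisors.ne_zero y.2 (Subtype.ext h))
    have hg : ∀ y : A', g (algebraMap A' (FractionRing A') y) = algebraMap D (FractionRing D) y := fun y =>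
      IsLocalization.lift_eq _ y
    have hxA : IsIntegral A x := isIntegral_trans x hx
    have hgx : IsIntegral A (g x) := hxA.map g
    obtain ⟨d, hd⟩ := (isIntegrallyClosed_iff (FractionRing D)).1 ‹_› (x := g x) hgx.tower_top
    have hdA : d ∈ A' := (isIntegral_algebraMap_iff (IsFractionRing.injective D (FractionRing D))).1 (hd ▸ hgx)
    exact ⟨⟨d, hdA⟩, g.toRingHom.injective ((hg ⟨d, hdA⟩).trans hd)⟩
  let q : Ideal A' := (maximalIdeal D).comap A'.val.toRingHom
  haveI : q.IsPrime := Ideal.IsPrime.comap _
  let R := Localization.AtPrime q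
  let φ : R →ₐ[A] S := IsLocalization.liftAlgHom (M := q.primeCompl) (f := D.val.comp A'.val) fun y =>
    (IsLocalRing.notMem_maximalIdeal.mp y.2).map (algebraMap D S)
  have hφ : ∀ y : A', φ (algebraMap A' R y) = ((y : D) : S) := fun y => IsLocalization.lift_eq _ y
  have hinj : Function.Injective φ := (IsLocalization.lift_injective_iff _).2 fun x y =>
    ⟨fun h => by rw [IsLocalization.injective R q.primeCompl_le_nonZeroDivisors h],
      fun h => congrArg _ (Subtype.ext (Subtype.ext h))⟩
  let eR : R ≃ₐ[A] φ.range := AlgEquiv.ofInjective φ hinj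
  haveI : IsLocalRing φ.range := eR.toRingEquiv.isLocalRing
  haveI : IsNoetherianRing R := IsLocalization.isNoetherianRing q.primeCompl R inferInstance
  haveI : IsNoetherianRing φ.range := isNoetherianRing_of_ringEquiv R eR.toRingEquiv
  haveI : IsIntegrallyClosed R := isIntegrallyClosed_of_isLocalization R q.primeCompl q.primeCompl_le_nonZeroDivisors
  haveI : IsIntegrallyClosed φ.range := IsIntegrallyClosed.of_equiv (R := R) (S := φ.range) eR.toRingEquiv
  haveI : IsDomain φ.range := Subalgebra.isDomain _
  haveI : Algebra.EssFiniteType A R := by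
    haveI : Algebra.EssFiniteType A' R := Algebra.EssFiniteType.of_isLocalization R q.primeCompl
    exact Algebra.EssFiniteType.comp A A' R
  haveI : Algebra.EssFiniteType A φ.range := Algebra.EssFiniteType.of_surjective (R := A) (S := R) (T := φ.range) eR.toAlgHom eR.surjective
  have hle : φ.range ≤ D := by
    rintro _ ⟨z, rfl⟩
    obtain ⟨⟨y, s⟩, hz⟩ := IsLocalization.surj q.primeCompl z
    obtain ⟨v, hv⟩ := (IsLocalRing.notMem_maximalIdeal.mp s.2 : IsUnit ((s : A') : D)).exists_right_inv
    have h1 : φ z * ((s : A') : D) = (((y : D)) : S) := by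
      rw [← hφ, ← hφ, ← map_mul, hz]
    have h2 : (((s : A') : D) : S) * (v : S) = 1 := congrArg (fun w : D => (w : S)) hv
    have h3 : φ z = ((y : D) : S) * (v : S) := by rw [← h1, mul_assoc, h2, mul_one]
    show φ z ∈ D
    rw [h3]
    exact D.mul_mem (y : D).2 v.2
  haveI hlocD : IsLocalHom (algebraMap φ.range S) := ⟨fun z hz => by
    obtain ⟨w, rfl⟩ := eR.surjective z
    refine IsUnit.map eR ?_
    obtain ⟨⟨y, s⟩, hw⟩ := IsLocalization.surj q.primeCompl w
    have hu : IsUnit ((y : D) : S) := by
      rw [← hφ, ← hw, map_mul, hφ]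
      exact (hz : IsUnit (φ w)).mul ((IsLocalRing.notMem_maximalIdeal.mp s.2).map (algebraMap D S))
    have hy : y ∈ q.primeCompl := IsLocalRing.notMem_maximalIdeal.mpr (isUnit_of_map_unit (algebraMap D S) (y : D) hu)
    exact isUnit_of_mul_isUnit_left (hw ▸ IsLocalization.map_units R (⟨y, hy⟩ : q.primeCompl))⟩
  -- the extension `φ.range → E`
  letI : Algebra φ.range E := (Subalgebra.inclusion (hle.trans hDE)).toRingHom.toAlgebra
  haveI : IsScalarTower A φ.range E := .of_algebraMap_eq fun a => rfl
  haveI : IsScalarTower φ.range E S := .of_algebraMap_eq fun a => rfl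
  haveI : IsLocalHom (algebraMap φ.range E) := ⟨fun z hz =>
    hlocD.map_nonunit z (hz.map (algebraMap E S))⟩
  haveI : Algebra.FormallyUnramified φ.range E := Algebra.FormallyUnramified.of_restrictScalars A φ.range E
  haveI : Algebra.EssFiniteType φ.range E := Algebra.EssFiniteType.of_comp A φ.range E
  have hdim : ringKrullDim φ.range ≤ ringKrullDim E := by
    rw [← ringKrullDim_eq_of_ringEquiv eR.toRingEquiv, DescLib.ringKrullDim_eq_of_flat_unramified A E]
    refine le_trans ?_ (EGA41Lib.ringKrullDim_le_of_integral (A := A) (B := A'))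
    rw [IsLocalization.AtPrime.ringKrullDim_eq_height q R]
    exact Ideal.height_le_ringKrullDim_of_ne_top (Ideal.IsPrime.ne_top ‹_›)
  have hER := isEssentiallyEtale_of_normal φ.range E hdim
  haveI := flat_of_isEssentiallyEtale hER
  haveI : Module.FaithfullyFlat φ.range E := Module.FaithfullyFlat.of_flat_of_isLocalHom
  haveI hAR : IsLocalHom (algebraMap A φ.range) := ⟨fun a ha => isUnit_of_map_unit (algebraMap A S) a (by
    rw [IsScalarTower.algebraMap_apply A φ.range S]; exact ha.map _)⟩
  have hm : (maximalIdeal A).map (algebraMap A φ.range) = maximalIdeal φ.range := by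
    rw [← Ideal.comap_map_eq_self_of_faithfullyFlat (B := E) ((maximalIdeal A).map (algebraMap A φ.range)),
      Ideal.map_map, ← IsScalarTower.algebraMap_eq, EtAlg7.map_maximalIdeal hE,
      IsLocalRing.maximalIdeal_comap]
  have hres := S16438.result A S φ.range hm
  have heq : D = φ.range := by
    refine le_antisymm (fun x hx => ?_) hle
    obtain ⟨a, ha, hax⟩ := hfrac ⟨x, hx⟩
    haveI : Module.Flat A φ.range := flat_of_isEssentiallyEtale hres
    obtain ⟨r, hr⟩ := mem_range_of_mul_mem (E := φ.range) (T := E) (a := algebraMap A φ.range a)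
      (algebraMap_mem_nonZeroDivisors A φ.range (mem_nonZeroDivisors_of_ne_zero ha)) (x := ⟨x, hDE hx⟩)
      ⟨⟨_, ⟨algebraMap A' R ⟨_, hax⟩, rfl⟩⟩, Subtype.ext (by
        show algebraMap A S a * x = φ (algebraMap A' R ⟨a • (⟨x, hx⟩ : D), hax⟩)
        rw [hφ, ← Algebra.smul_def]
        rfl)⟩
    rw [show x = (r : S) from (congrArg (fun w : E => (w : S)) hr).symm]
    exact r.2
  exact isEssentiallyEtale_congr hres (Subalgebra.equivOfEq _ _ heq.symm)

end Groth.Agent.E4Loc
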